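import Groth.Agent.SBAutLib.Linear

/-!
# Natural self-maps fixing the geometric points are trivial
-/

set_option autoImplicit false

universe u

open MvPolynomial
open scoped TensorProduct

namespace SBAutLib

noncomputable section

variable {k : Type u} [Field k] {A : Type u} [Ring A] [Algebra k A] {c : ℕ}

/-- Base change of a point, as a point. -/
def mapSet {R S : Type u} [CommRing R] [Algebra k R] [CommRing S] [Algebra k S] (φ : R →ₐ[k] S)
    (N : BrSev.SBSet k A c R) : BrSev.SBSet k A c S :=
  ⟨Module.Grassmannian.map φ N.1, by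
    intro b x hx
    rw [map_eq_pmap] at hx ⊢
    induction hx using Submodule.span_induction with
    | mem x hx =>
      obtain ⟨y, hy, rfl⟩ := hx
      induction b using TensorProduct.induction_on with
      | zero => rw [zero_mul]; exact Submodule.zero_mem _
      | add u v hu hv => rw [add_mul]; exact Submodule.add_mem _ hu hv
      | tmul r d =>
        have e : (r ⊗ₜ[k] d : S ⊗[k] A) * Algebra.TensorProduct.map φ (AlgHom.id k A) y =
            r • Algebra.TensorProduct.map φ (AlgHom.id k A) (((1 : R) ⊗ₜ[k] d) * y) := by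
          rw [map_mul, Algebra.TensorProduct.map_tmul, map_one, AlgHom.id_apply, ← smul_mul_assoc,
            TensorProduct.smul_tmul', smul_eq_mul, mul_one]
        rw [e]
        exact Submodule.smul_mem _ _ (Submodule.subset_span ⟨_, N.2 _ _ hy, rfl⟩)
    | zero => rw [mul_zero]; exact Submodule.zero_mem _
    | add u v _ _ hu hv => rw [mul_add]; exact Submodule.add_mem _ hu hv
    | smul t u _ hu => rw [mul_smul_comm]; exact Submodule.smul_mem _ _ hu⟩

theorem mapSet_val {R S : Type u} [CommRing R] [Algebra k R] [CommRing S] [Algebra k S] (φ : R →ₐ[k] S)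
    (N : BrSev.SBSet k A c R) : (mapSet φ N).1 = Module.Grassmannian.map φ N.1 := rfl

theorem NatEnd.map_app (G : NatEnd k A c) {R S : Type u} [CommRing R] [Algebra k R] [CommRing S] [Algebra k S]
    (φ : R →ₐ[k] S) (N : BrSev.SBSet k A c R) : G.app S (mapSet φ N) = mapSet φ (G.app R N) :=
  SBActLib.sbset_ext (G.natural R S φ N _ rfl)

variable [Module.Finite k A] {n : ℕ} {K : Type u} [Field K] [Algebra k K] (s : Split k A n K)
  (hA : Module.finrank k A = n * n)

local notation "S" => MvPolynomial (Fin n) K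

theorem pt_congr {R : Type u} [CommRing R] [Algebra k R] [Algebra K R] [IsScalarTower k K R] {v v' : Fin n → R}
    (h : v = v') (hv : ∃ w : Fin n → R, ∑ j, v j * w j = 1) (hv' : ∃ w : Fin n → R, ∑ j, v' j * w j = 1) :
    pt s R hA v hv = pt s R hA v' hv' := by subst h; rfl

theorem mapSet_pt {R T : Type u} [CommRing R] [Algebra k R] [Algebra K R] [IsScalarTower k K R] [CommRing T]
    [Algebra k T] [Algebra K T] [IsScalarTower k K T] (φ : R →ₐ[K] T)
    (v : Fin n → R) (hv : ∃ w : Fin n → R, ∑ j, v j * w j = 1) (hv' : ∃ w : Fin n → T, ∑ j, φ (v j) * w j = 1) :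
    mapSet (φ.restrictScalars k) (pt s R hA v hv) = pt s T hA (fun j => φ (v j)) hv' := by
  obtain ⟨h1, e⟩ := pmap_pt s R hA φ v hv
  exact SBActLib.sbset_ext e

variable (G : NatEnd k A (n * n - n))

theorem app_chart [IsAlgClosed K] (hn : 0 < n) (hfix : ∀ N : BrSev.SBSet k A (n * n - n) K, G.app K N = N) (i : Fin n) :
    G.app S (pt s S hA (chart i) (chart_uni i)) = pt s S hA (chart i) (chart_uni i) := by
  obtain ⟨v, hv, hvG⟩ := exists_pt_of_mvPolynomial s hA hn (G.app S (pt s S hA (chart i) (chart_uni i)))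
  rw [← hvG]
  refine (pt_eq_iff s S hA v _ hv (chart_uni i) hn).2 ⟨v i, funext fun j => MvPolynomial.funext fun a => ?_⟩
  obtain ⟨h1, h2, e⟩ := app_pt_eval s hA G hv (chart_uni i) hvG.symm a
  rw [hfix] at e
  obtain ⟨t, ht⟩ := (ptK_eq_iff s hA hn _ _ h2 h1).1 e.symm
  have hi : eval a (v i) = t := by
    have := congrFun ht i
    simpa [chart] using this
  rw [Pi.smul_apply, smul_eq_mul, map_mul, hi]
  exact congrFun ht j

include s hA in
theorem rigid [IsAlgClosed K] (hn : 0 < n) (hfix : ∀ N : BrSev.SBSet k A (n * n - n) K, G.app K N = N)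
    (R : Type u) [CommRing R] [Algebra k R] (N : BrSev.SBSet k A (n * n - n) R) : G.app R N = N := by
  classical
  have hloc : ∀ (T : Type u) [CommRing T] [Algebra k T] [Algebra K T] [IsScalarTower k K T] [IsLocalRing T]
      (M : BrSev.SBSet k A (n * n - n) T), G.app T M = M := by
    intro T _ _ _ _ _ M
    obtain ⟨v, hv, ⟨i, hu⟩, rfl⟩ := exists_pt_of_local s T hA hn M
    obtain ⟨u, huv⟩ := hu
    let v' : Fin n → T := fun j => (↑u⁻¹ : T) * v j
    have hv'i : v' i = 1 := by simp [v', ← huv]
    let φ : S →ₐ[K] T := aeval v'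
    have hφ : (fun j => φ (chart i j)) = v' := funext fun j => by
      by_cases h : j = i
      · subst h; simp [chart, φ, hv'i]
      · simp [chart, φ, h]
    have hu' : ∃ w : Fin n → T, ∑ j, φ (chart i j) * w j = 1 :=
      ⟨Pi.single i 1, by
        rw [Finset.sum_eq_single i (fun l _ hl => by simp [hl]) (by simp), congrFun hφ i, hv'i, Pi.single_eq_same, one_mul]⟩
    have e : pt s T hA v hv = mapSet (φ.restrictScalars k) (pt s S hA (chart i) (chart_uni i)) := by
      rw [mapSet_pt s hA φ _ _ hu']
      refine (pt_eq_iff s T hA _ _ hv hu' hn).2 ⟨(u : T), funext fun j => ?_⟩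
      rw [Pi.smul_apply, congrFun hφ j, smul_eq_mul]
      simp [v', ← mul_assoc]
    rw [e, G.map_app, app_chart s hA G hn hfix]
  have hK : ∀ (T : Type u) [CommRing T] [Algebra k T] [Algebra K T] [IsScalarTower k K T]
      (M : BrSev.SBSet k A (n * n - n) T), G.app T M = M := by
    intro T _ _ _ _ M
    refine eq_of_localizations _ _ fun m _ => ?_
    have h1 := G.map_app (IsScalarTower.toAlgHom k T (Localization.AtPrime m)) M
    rw [hloc] at h1
    exact (congrArg (fun P : BrSev.SBSet k A (n * n - n) (Localization.AtPrime m) => P.1.toSubmodule) h1).symm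
  refine eq_of_map_eq (ι := PUnit) (fun _ => K ⊗[k] R) (fun _ => Algebra.TensorProduct.includeRight)
    (fun r hr => Algebra.TensorProduct.includeRight_injective (algebraMap k K).injective
      ((hr PUnit.unit).trans (map_zero _).symm)) _ _ fun _ => ?_
  have h1 := G.map_app (Algebra.TensorProduct.includeRight : R →ₐ[k] K ⊗[k] R) N
  rw [hK] at h1
  exact (congrArg (fun P : BrSev.SBSet k A (n * n - n) (K ⊗[k] R) => P.1.toSubmodule) h1).symm

end

end SBAutLib
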