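import Groth.Agent.SBAutLib.Rigid
import Groth.Agent.CSALib.Split
import Mathlib.FieldTheory.Galois.Infinite
import Mathlib.FieldTheory.SeparableClosure
import Mathlib.FieldTheory.IsAlgClosed.AlgebraicClosure

/-!
# Automorphisms of Severi–Brauer varieties come from units
-/

set_option autoImplicit false

universe u

open CategoryTheory AlgebraicGeometry
open scoped TensorProduct

namespace SBAutLib

noncomputable section

theorem eq_smul_of_vecMul {K : Type*} [Field K] {n : ℕ} {W W' : Matrix (Fin n) (Fin n) K} (hW : W.det ≠ 0)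
    (h : ∀ a : Fin n → K, a ≠ 0 → ∃ c : K, Matrix.vecMul a W' = c • Matrix.vecMul a W) :
    ∃ c : K, W' = c • W := by
  classical
  rcases Nat.eq_zero_or_pos n with hn | hn
  · subst hn; exact ⟨0, Subsingleton.elim _ _⟩
  let U := W' * W⁻¹
  have hU : ∀ a : Fin n → K, a ≠ 0 → ∃ c : K, Matrix.vecMul a U = c • a := by
    intro a ha
    obtain ⟨c, hc⟩ := h a ha
    refine ⟨c, ?_⟩
    rw [← Matrix.vecMul_vecMul, hc, Matrix.smul_vecMul, Matrix.vecMul_vecMul, Matrix.mul_nonsing_inv _ (Ne.isUnit hW),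
      Matrix.vecMul_one]
  have hdiag : ∀ i j : Fin n, i ≠ j → U i j = 0 := by
    intro i j hij
    obtain ⟨a, ha⟩ := hU (Pi.single i 1) (by simp)
    have := congrFun ha j
    simpa [hij.symm] using this
  haveI : NeZero n := ⟨hn.ne'⟩
  obtain ⟨c, hc⟩ := hU (fun _ => 1) (Function.ne_iff.2 ⟨0, one_ne_zero⟩)
  refine ⟨c, ?_⟩
  have hU' : U = c • (1 : Matrix (Fin n) (Fin n) K) := by
    ext i j
    by_cases hij : i = j
    · subst hij
      have := congrFun hc i
      rw [Matrix.vecMul, dotProduct, Finset.sum_eq_single i (fun b _ hb => by rw [hdiag b i hb, mul_zero]) (by simp)] at this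
      simpa using this
    · rw [hdiag i j hij]; simp [hij]
  calc W' = U * W := by rw [Matrix.mul_assoc, Matrix.nonsing_inv_mul _ (Ne.isUnit hW), Matrix.mul_one]
    _ = c • W := by rw [hU', Matrix.smul_mul, Matrix.one_mul]

variable {k : Type u} [Field k] {A : Type u} [Ring A] [Algebra k A]

theorem mapSet_comp {c : ℕ} {R S T : Type u} [CommRing R] [Algebra k R] [CommRing S] [Algebra k S] [CommRing T]
    [Algebra k T] (φ : R →ₐ[k] S) (ψ : S →ₐ[k] T) (N : BrSev.SBSet k A c R) :
    mapSet ψ (mapSet φ N) = mapSet (ψ.comp φ) N :=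
  Subtype.ext (Module.Grassmannian.map_comp c φ ψ N.1).symm

theorem mapSet_id {c : ℕ} {R : Type u} [CommRing R] [Algebra k R] (N : BrSev.SBSet k A c R) :
    mapSet (AlgHom.id k R) N = N := by
  refine SBActLib.sbset_ext ?_
  rw [mapSet_val, map_eq_pmap, pmap, Algebra.TensorProduct.map_id]
  simp

variable [Module.Finite k A] {n : ℕ}

theorem mat_self {K₀ : Type u} [Field K₀] [Algebra k K₀] (s : Split k A n K₀) (hA : Module.finrank k A = n * n)
    (x : K₀ ⊗[k] A) : mat s K₀ hA x = s.e x := by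
  rw [mat_apply]
  induction x using TensorProduct.induction_on with
  | zero => simp
  | add a b ha hb => rw [map_add, map_add, ha, hb]
  | tmul r a =>
    rw [toMat_tmul, show r ⊗ₜ[k] a = r • ((1 : K₀) ⊗ₜ[k] a) by rw [TensorProduct.smul_tmul', smul_eq_mul, mul_one],
      map_smul]
    simp

theorem twist_ptK {K : Type u} [Field K] [Algebra k K] (s : Split k A n K) (hA : Module.finrank k A = n * n)
    (v0 : Aˣ) (a b : Fin n → K) (ha : a ≠ 0) (hb : b ≠ 0) (c : K)
    (h : b = c • Matrix.vecMul a (s.e ((1 : K) ⊗ₜ[k] (v0 : A)))) :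
    SBActLib.twist K v0 (ptK s hA b hb) = ptK s hA a ha := by
  refine eq_of_le _ _ ?_
  rintro _ ⟨_, ⟨x, rfl⟩, rfl⟩
  refine ⟨c • x, ?_⟩
  apply (mat s K hA).injective
  rw [mat_line, LinearEquiv.coe_coe, SBActLib.rmul_apply, map_mul, mat_line, Matrix.vecMulVec_mul, mat_self s hA]
  have hinv : s.e ((1 : K) ⊗ₜ[k] (v0 : A)) * s.e ((1 : K) ⊗ₜ[k] ((v0⁻¹ : Aˣ) : A)) = 1 := by
    rw [← map_mul, Algebra.TensorProduct.tmul_mul_tmul, one_mul, Units.mul_inv, ← Algebra.TensorProduct.one_def,
      map_one]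
  rw [h, Matrix.smul_vecMul, Matrix.vecMul_vecMul, hinv, Matrix.vecMul_one, Matrix.vecMulVec_smul,
    Matrix.smul_vecMulVec]

set_option maxHeartbeats 1600000 in
/-- **Every natural automorphism of the points is a twist by a unit.** -/
theorem exists_twist [Algebra.IsCentral k A] [IsSimpleRing A] (hn : 0 < n) (hA : Module.finrank k A = n * n)
    (G H : NatEnd k A (n * n - n))
    (hHG : ∀ (R : Type u) [CommRing R] [Algebra k R] (N : BrSev.SBSet k A (n * n - n) R), G.app R (H.app R N) = N) :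
    ∃ u : Aˣ, ∀ (R : Type u) [CommRing R] [Algebra k R] (N : BrSev.SBSet k A (n * n - n) R),
      G.app R N = SBActLib.twist R u N := by
  classical
  let Kb := AlgebraicClosure k
  let Ks := separableClosure k Kb
  haveI : IsGalois k Ks := separableClosure.isGalois k Kb
  haveI : IsSepClosed Ks := by
    have : IsSepClosure k Ks := inferInstance
    exact this.sep_closed
  haveI : IsSimpleRing (Ks ⊗[k] A) := CSALib.isSimpleRing_baseChange A Ks
  obtain ⟨m, hm, ⟨e0⟩⟩ := CSALib.exists_matrix_of_isSepClosed (k := Ks) (Ks ⊗[k] A)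
  have hmn : m = n := by
    have h1 := e0.toLinearEquiv.finrank_eq
    rw [Module.finrank_baseChange, hA, Module.finrank_matrix, Module.finrank_self, mul_one, Fintype.card_fin] at h1
    exact (Nat.mul_self_inj.1 h1).symm
  subst hmn
  let s₀ : Split k A m Ks := ⟨e0⟩
  let s : Split k A m Kb := ⟨mat s₀ Kb hA⟩
  let ι : Ks →ₐ[Ks] Kb := Algebra.ofId Ks Kb
  let ιk : Ks →ₐ[k] Kb := ι.restrictScalars k
  have hss : ∀ (v : Fin m → Kb) (hv : ∃ w : Fin m → Kb, ∑ j, v j * w j = 1), pt s Kb hA v hv = pt s₀ Kb hA v hv := by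
    intro v hv
    refine SBActLib.sbset_ext ?_
    show LinearMap.range (line s Kb hA v) = LinearMap.range (line s₀ Kb hA v)
    congr 1
    refine LinearMap.ext fun a => ?_
    apply (mat s₀ Kb hA).injective
    rw [mat_line, show mat s₀ Kb hA (line s Kb hA v a) = mat s Kb hA (line s Kb hA v a) from (mat_self s hA _).symm, mat_line]
  -- linearity over the algebraic closure
  obtain ⟨U, hU⟩ := exists_linear s hA G hn H (fun N => hHG Kb N)
  have hUinj : U.det ≠ 0 := by
    intro hdet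
    obtain ⟨v, hv0, hv⟩ := Matrix.exists_vecMul_eq_zero_iff.2 hdet
    exact (hU v hv0).choose hv
  -- rational vectors go to rational vectors
  have hrat : ∀ a : Fin m → Ks, a ≠ 0 → ∃ (t : Kb) (b : Fin m → Ks), t ≠ 0 ∧ b ≠ 0 ∧
      Matrix.vecMul (fun j => ι (a j)) U = t • (fun j => ι (b j)) ∧
      (∀ ha hb, G.app Ks (ptK s₀ hA a ha) = ptK s₀ hA b hb) := by
    intro a ha
    obtain ⟨b, hb, hab⟩ := exists_ptK s₀ hA hn (G.app Ks (ptK s₀ hA a ha))
    have ha' : (fun j => ι (a j)) ≠ 0 := fun h => ha (funext fun j => ι.toRingHom.injective (by simpa using congrFun h j))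
    have hb' : (fun j => ι (b j)) ≠ 0 := fun h => hb (funext fun j => ι.toRingHom.injective (by simpa using congrFun h j))
    have h1 : ∀ (x : Fin m → Ks) (hx : x ≠ 0) (hx' : (fun j => ι (x j)) ≠ 0),
        mapSet ιk (ptK s₀ hA x hx) = ptK s hA _ hx' := by
      intro x hx hx'
      obtain ⟨h2, e⟩ := pmap_pt s₀ Ks hA ι x (by
        obtain ⟨j, hj⟩ := Function.ne_iff.1 hx
        exact ⟨Pi.single j (x j)⁻¹, by
          rw [Finset.sum_eq_single j (fun l _ hl => by simp [hl]) (by simp), Pi.single_eq_same, mul_inv_cancel₀ hj]⟩)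
      refine (SBActLib.sbset_ext e).trans ?_
      exact (hss _ _).symm
    have h2 := G.map_app ιk (ptK s₀ hA a ha)
    rw [h1 a ha ha', ← hab, h1 b hb hb'] at h2
    obtain ⟨hc, e⟩ := hU _ ha'
    rw [e] at h2
    obtain ⟨t, ht⟩ := (ptK_eq_iff s hA hn _ _ hc hb').1 h2
    exact ⟨t, b, fun h => hc (by rw [ht, h, zero_smul]), hb, ht, fun ha hb => hab.symm⟩
  choose t r ht hr htr hG using fun i : Fin m => hrat (Pi.single i 1) (by simp)
  have hrow : ∀ i, U i = t i • fun j => ι (r i j) := fun i => by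
    have h1 : (fun j => ι ((Pi.single i (1 : Ks) : Fin m → Ks) j)) = Pi.single i 1 := funext fun j => by
      by_cases h : j = i
      · subst h; simp
      · simp [h]
    have := htr i
    rw [h1, Matrix.single_one_vecMul] at this
    exact this
  let R0 : Matrix (Fin m) (Fin m) Ks := r
  have hU0 : U = Matrix.diagonal t * R0.map ι := by
    ext i j
    rw [Matrix.diagonal_mul, Matrix.map_apply, hrow i]
    rfl
  have hR0 : (R0.map ι).det ≠ 0 := fun h => hUinj (by rw [hU0, Matrix.det_mul, h, mul_zero])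
  haveI : NeZero m := ⟨hm.ne'⟩
  obtain ⟨t0, b0, ht0, hb0, htb, -⟩ := hrat (fun _ => 1) (Function.ne_iff.2 ⟨0, one_ne_zero⟩)
  have ht' : t = t0 • fun i => ι (Matrix.vecMul b0 R0⁻¹ i) := by
    have h1 : Matrix.vecMul t (R0.map ι) = t0 • fun j => ι (b0 j) := by
      rw [← htb, hU0, ← Matrix.vecMul_vecMul]
      congr 1
      funext i
      simp [Matrix.vecMul_diagonal]
    have hdet0 : IsUnit R0.det := Ne.isUnit fun h => hR0 (by
      rw [← AlgHom.mapMatrix_apply, ← AlgHom.map_det, h, map_zero])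
    have h2 := congrArg (fun v => Matrix.vecMul v (R0⁻¹.map ι)) h1
    simp only [Matrix.smul_vecMul] at h2
    rw [Matrix.vecMul_vecMul] at h2
    rw [← AlgHom.mapMatrix_apply, ← AlgHom.mapMatrix_apply, ← map_mul, Matrix.mul_nonsing_inv _ hdet0, map_one,
      Matrix.vecMul_one] at h2
    rw [h2]
    congr 1
    funext i
    exact (RingHom.map_vecMul ι.toRingHom R0⁻¹ b0 i).symm
  let W : Matrix (Fin m) (Fin m) Ks := Matrix.diagonal (Matrix.vecMul b0 R0⁻¹) * R0
  have hUW : U = t0 • W.map ι := by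
    rw [hU0, ht']
    ext i j
    simp [W, Matrix.diagonal_mul]
  have hW : W.det ≠ 0 := fun h => hUinj (by
    rw [hUW, Matrix.det_smul, ← AlgHom.mapMatrix_apply, ← AlgHom.map_det, h, map_zero, mul_zero])
  -- the action on rational points
  have hGs : ∀ (a : Fin m → Ks) (ha : a ≠ 0), ∃ hb : Matrix.vecMul a W ≠ 0,
      G.app Ks (ptK s₀ hA a ha) = ptK s₀ hA _ hb := by
    intro a ha
    obtain ⟨t1, b, ht1, hb, e, hGa⟩ := hrat a ha
    have hb' : Matrix.vecMul a W ≠ 0 := fun h => ha
      (Matrix.vecMul_injective_iff_isUnit.2 ((Matrix.isUnit_iff_isUnit_det W).2 (Ne.isUnit hW))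
        (h.trans (Matrix.zero_vecMul W).symm))
    refine ⟨hb', (hGa ha hb).trans ((ptK_eq_iff s₀ hA hn _ _ hb hb').2 ?_)⟩
    rw [hUW, Matrix.vecMul_smul] at e
    obtain ⟨i, hi⟩ := Function.ne_iff.1 hb'
    refine ⟨b i / Matrix.vecMul a W i, funext fun j => ι.toRingHom.injective ?_⟩
    have e' : ∀ j, t0 * ι (Matrix.vecMul a W j) = t1 * ι (b j) := fun j => by
      have := congrFun e j
      rw [Pi.smul_apply, Pi.smul_apply, smul_eq_mul, smul_eq_mul] at this
      rw [← this]
      exact congrArg (t0 * ·) (RingHom.map_vecMul ι.toRingHom W a j)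
    show ι (b j) = ι (b i / Matrix.vecMul a W i * Matrix.vecMul a W j)
    have hii : ι (Matrix.vecMul a W i) ≠ 0 := (map_ne_zero_iff _ ι.toRingHom.injective).2 hi
    rw [map_mul, map_div₀, eq_comm, div_mul_eq_mul_div, div_eq_iff hii]
    apply mul_left_cancel₀ ht1
    linear_combination (ι (Matrix.vecMul a W i)) * e' j - (ι (Matrix.vecMul a W j)) * e' i
  let z : Ks ⊗[k] A := s₀.e.symm W
  have hz0 : z ≠ 0 := fun h => hW (by
    have : W = 0 := by rw [← s₀.e.apply_symm_apply W]; show s₀.e z = 0; rw [h, map_zero]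
    rw [this, Matrix.det_zero])
  have hGz : ∀ N : BrSev.SBSet k A (m * m - m) Ks,
      (G.app Ks N).1.toSubmodule = N.1.toSubmodule.map (LinearMap.mulRight Ks z) := by
    intro N
    obtain ⟨a, ha, rfl⟩ := exists_ptK s₀ hA hn N
    obtain ⟨hb, e⟩ := hGs a ha
    rw [e]
    show LinearMap.range (line s₀ Ks hA _) = (LinearMap.range (line s₀ Ks hA a)).map _
    rw [← LinearMap.range_comp]
    congr 1
    refine LinearMap.ext fun x => ?_
    apply (mat s₀ Ks hA).injective
    rw [mat_line, LinearMap.comp_apply, LinearMap.mulRight_apply, map_mul, mat_line, mat_self s₀ hA z,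
      AlgEquiv.apply_symm_apply, Matrix.vecMulVec_mul]
  have hgal : ∀ σ : Ks ≃ₐ[k] Ks, ∃ c : Ks, Algebra.TensorProduct.map σ.toAlgHom (AlgHom.id k A) z = c • z := by
    intro σ
    let z' := Algebra.TensorProduct.map σ.toAlgHom (AlgHom.id k A) z
    have hz' : ∀ M : BrSev.SBSet k A (m * m - m) Ks,
        (G.app Ks M).1.toSubmodule = M.1.toSubmodule.map (LinearMap.mulRight Ks z') := by
      intro M
      obtain ⟨N, rfl⟩ : ∃ N, mapSet σ.toAlgHom N = M :=
        ⟨mapSet σ.symm.toAlgHom M, by rw [mapSet_comp, AlgEquiv.comp_symm, mapSet_id]⟩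
      rw [G.map_app, mapSet_val, map_eq_pmap, mapSet_val, map_eq_pmap, pmap, pmap, hGz, Submodule.map_span,
        Submodule.map_coe, ← Set.image_comp, ← Set.image_comp]
      congr 1
      refine Set.image_congr fun x _ => ?_
      simp only [Function.comp_apply, LinearMap.mulRight_apply, map_mul]
      rfl
    have hvec : ∀ a : Fin m → Ks, a ≠ 0 → ∃ c : Ks, Matrix.vecMul a (s₀.e z') = c • Matrix.vecMul a W := by
      intro a ha
      obtain ⟨hb, e⟩ := hGs a ha
      have h1 : line s₀ Ks hA a (Pi.single 0 1) * z' ∈ (G.app Ks (ptK s₀ hA a ha)).1.toSubmodule := by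
        rw [hz']; exact ⟨_, ⟨_, rfl⟩, rfl⟩
      rw [e] at h1
      obtain ⟨x, hx⟩ := h1
      have h2 := congrArg (mat s₀ Ks hA) hx
      rw [mat_line, map_mul, mat_line, mat_self s₀ hA z', Matrix.vecMulVec_mul] at h2
      refine ⟨x 0, funext fun j => ?_⟩
      have := congrFun (congrFun h2 0) j
      simpa [Matrix.vecMulVec_apply] using this.symm
    obtain ⟨c, hc⟩ := eq_smul_of_vecMul hW hvec
    refine ⟨c, s₀.e.injective ?_⟩
    rw [map_smul, AlgEquiv.apply_symm_apply]
    exact hc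
  -- descend
  let b := Module.finBasis k A
  let B := Algebra.TensorProduct.basis Ks b
  obtain ⟨j0, hj0⟩ : ∃ j, B.repr z j ≠ 0 := by
    by_contra! h
    exact hz0 (B.repr.map_eq_zero_iff.1 (Finsupp.ext h))
  have hσrepr : ∀ (σ : Ks ≃ₐ[k] Ks) (x : Ks ⊗[k] A) j,
      B.repr (Algebra.TensorProduct.map σ.toAlgHom (AlgHom.id k A) x) j = σ (B.repr x j) := by
    intro σ x j
    induction x using TensorProduct.induction_on with
    | zero => simp
    | add u v hu hv => simp only [map_add, Finsupp.add_apply, hu, hv]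
    | tmul r a => simp [B, Algebra.TensorProduct.basis_repr_tmul, map_mul]
  have hy : ∀ j, B.repr z j / B.repr z j0 ∈ (⊥ : IntermediateField k Ks) := by
    intro j
    rw [InfiniteGalois.mem_bot_iff_fixed]
    intro σ
    obtain ⟨c, hc⟩ := hgal σ
    have h1 : ∀ j, σ (B.repr z j) = c * B.repr z j := fun j => by
      rw [← hσrepr, hc, map_smul, Finsupp.smul_apply, smul_eq_mul]
    have hc0 : c ≠ 0 := fun h => by
      have := h1 j0
      rw [h, zero_mul, map_eq_zero] at this
      exact hj0 this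
    rw [map_div₀, h1, h1, mul_div_mul_left _ _ hc0]
  choose y hy using fun j => IntermediateField.mem_bot.1 (hy j)
  let u0 : A := ∑ j, y j • b j
  have hzu : z = B.repr z j0 • ((1 : Ks) ⊗ₜ[k] u0) := by
    conv_lhs => rw [← B.sum_repr z]
    rw [TensorProduct.tmul_sum, Finset.smul_sum]
    refine Finset.sum_congr rfl fun j _ => ?_
    rw [Algebra.TensorProduct.basis_apply, TensorProduct.tmul_smul, ← algebraMap_smul Ks (y j), hy j, smul_smul,
      mul_div_cancel₀ _ hj0]
  have hWu : W = B.repr z j0 • s₀.e ((1 : Ks) ⊗ₜ[k] u0) := by rw [← map_smul, ← hzu, AlgEquiv.apply_symm_apply]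
  have hu0 : IsUnit u0 := by
    have hinj : Function.Injective (LinearMap.mulLeft k u0) := by
      intro x x' hxx
      have h1 : s₀.e ((1 : Ks) ⊗ₜ[k] u0) * s₀.e ((1 : Ks) ⊗ₜ[k] x) = s₀.e ((1 : Ks) ⊗ₜ[k] u0) * s₀.e ((1 : Ks) ⊗ₜ[k] x') := by
        rw [← map_mul, ← map_mul, Algebra.TensorProduct.tmul_mul_tmul, Algebra.TensorProduct.tmul_mul_tmul]
        exact congrArg (fun w => s₀.e (((1 : Ks) * 1) ⊗ₜ[k] w)) hxx
      have h2 : W * s₀.e ((1 : Ks) ⊗ₜ[k] x) = W * s₀.e ((1 : Ks) ⊗ₜ[k] x') := by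
        rw [hWu, Matrix.smul_mul, Matrix.smul_mul, h1]
      have h3 := s₀.e.injective (((Matrix.isUnit_iff_isUnit_det W).2 (Ne.isUnit hW)).mul_right_injective h2)
      exact Algebra.TensorProduct.includeRight_injective (A := Ks) (B := A) (algebraMap k Ks).injective h3
    obtain ⟨w, hw⟩ := LinearMap.injective_iff_surjective.1 hinj 1
    have hw' : u0 * w = 1 := hw
    exact ⟨⟨u0, w, hw', hinj (show u0 * (w * u0) = u0 * 1 by rw [← mul_assoc, hw', one_mul, mul_one])⟩, rfl⟩
  obtain ⟨v0, hv0⟩ := hu0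
  refine ⟨v0⁻¹, ?_⟩
  let G' : NatEnd k A (m * m - m) :=
    { app := fun R _ _ N => SBActLib.twist R v0 (G.app R N)
      natural := fun R T _ _ _ _ φ N M hM => by
        rw [SBActLib.twist_val, G.natural R T φ N M hM, SBActLib.map_twist] }
  have hfix : ∀ N : BrSev.SBSet k A (m * m - m) Kb, G'.app Kb N = N := by
    intro N
    obtain ⟨a, ha, rfl⟩ := exists_ptK s hA hn N
    obtain ⟨hb, e⟩ := hU a ha
    show SBActLib.twist Kb v0 (G.app Kb _) = _
    rw [e]
    have hUu : U = (t0 * ι (B.repr z j0)) • s.e ((1 : Kb) ⊗ₜ[k] u0) := by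
      rw [hUW, hWu]
      show _ = _ • mat s₀ Kb hA _
      rw [mat_apply, toMat_tmul, one_smul]
      ext i j
      simp only [Matrix.smul_apply, Matrix.map_apply, smul_eq_mul, map_mul]
      rw [mul_assoc]
      rfl
    refine twist_ptK s hA v0 a _ ha hb (t0 * ι (B.repr z j0)) ?_
    rw [hv0, hUu, Matrix.vecMul_smul]
  intro R _ _ N
  have h1 : SBActLib.twist R v0 (G.app R N) = N := rigid s hA G' hn hfix R N
  conv_rhs => rw [← h1, ← SBActLib.twist_mul, inv_mul_cancel, SBActLib.twist_one]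

variable {X : Scheme.{u}} {p : X ⟶ Spec (CommRingCat.of k)} {c : ℕ} (σ : BrSev.SBStr k A c p)

omit [Module.Finite k A] in
/-- The natural self-map of points of an endomorphism. -/
def natEndOf (g : Over.mk p ⟶ Over.mk p) : NatEnd k A c where
  app R _ _ N := σ.bij R ⟨((σ.bij R).symm N).1 ≫ g.left, by
    rw [Category.assoc]
    refine Eq.trans (congrArg (_ ≫ ·) (Over.w g)) ?_
    exact ((σ.bij R).symm N).2⟩
  natural R S _ _ _ _ φ N M hM := by
    have hM' : M = σ.bij S (BrSev.Pts.map p φ ((σ.bij R).symm N)) := by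
      refine SBActLib.sbset_ext ?_
      rw [hM, σ.natural, Equiv.apply_symm_apply]
    rw [hM', ← σ.natural R S φ]
    congr 2
    simp only [Equiv.symm_apply_apply]
    refine congrArg _ (Subtype.ext ?_)
    exact Category.assoc _ _ _

omit [Module.Finite k A] in
theorem natEndOf_comp (g h : Over.mk p ⟶ Over.mk p) (R : Type u) [CommRing R] [Algebra k R]
    (N : BrSev.SBSet k A c R) : (natEndOf σ h).app R ((natEndOf σ g).app R N) = (natEndOf σ (g ≫ h)).app R N := by
  simp only [natEndOf, Equiv.symm_apply_apply, Category.assoc, Over.comp_left]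

omit [Module.Finite k A] in
theorem natEndOf_id (R : Type u) [CommRing R] [Algebra k R] (N : BrSev.SBSet k A c R) :
    (natEndOf σ (𝟙 _)).app R N = N := by
  simp only [natEndOf, Over.id_left, Over.mk_left, Category.comp_id, Subtype.coe_eta, Equiv.apply_symm_apply]

/-- **Every automorphism of a Severi–Brauer variety comes from a unit.** -/
theorem autHom_surjective [Algebra.IsCentral k A] [IsSimpleRing A] (hn : 0 < n) (hA : Module.finrank k A = n * n)
    (σ : BrSev.SBStr k A (n * n - n) p) : Function.Surjective (SBActLib.autHom σ) := by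
  intro g
  obtain ⟨u, hu⟩ := exists_twist hn hA (natEndOf σ g.hom) (natEndOf σ g.inv) fun R _ _ N => by
    rw [natEndOf_comp, Iso.inv_hom_id, natEndOf_id]
  refine ⟨u, Iso.ext (Over.OverMorphism.ext ?_)⟩
  refine Scheme.Cover.hom_ext X.affineCover _ _ fun i => ?_
  show X.affineCover.f i ≫ (SBActLib.ptsEnd σ u).mor = X.affineCover.f i ≫ g.hom.left
  let T := X.affineCover.X i
  let x : Spec Γ(T, ⊤) ⟶ X := T.isoSpec.inv ≫ X.affineCover.f i
  letI := SBActLib.algOf x p
  have h1 := (SBActLib.ptsEnd σ u).pts_comp_mor (SBActLib.toPts (p := p) x)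
  have h2 := congrArg Subtype.val (congrArg (σ.bij Γ(T, ⊤)).symm (hu Γ(T, ⊤) (σ.bij _ (SBActLib.toPts (p := p) x))))
  simp only [natEndOf, Equiv.symm_apply_apply] at h2
  rw [SBActLib.ptsEnd_app, ← h2] at h1
  have h3 : x ≫ (SBActLib.ptsEnd σ u).mor = x ≫ g.hom.left := h1
  simp only [x, Category.assoc] at h3
  exact (cancel_epi T.isoSpec.inv).1 h3

end

end SBAutLib
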