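import Groth.Prelude.Def_GSzCSA
import Groth.Agent.CSALib.RedNormGen

/-!
# Existence of the reduced norm
-/

set_option autoImplicit false

universe u

open scoped TensorProduct

namespace SBAutLib

variable {k : Type u} [Field k] {A : Type u} [Ring A] [Algebra k A] [Algebra.IsCentral k A] [IsSimpleRing A]
  [FiniteDimensional k A]

/-- The reduced norm exists. -/
theorem exists_redNorm : ∃ N : A →* k, CSAGal.IsRedNorm k A N := by
  classical
  obtain ⟨L, hfin, hgal, hs⟩ := CSALib.exists_galois_splitting_field (k := k) (A := A)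
  obtain ⟨n, hn, hd, ⟨g⟩⟩ := CSALib.splits_elim hs
  haveI : NeZero n := ⟨hn⟩
  let φ := CSALib.splitEquiv hd g
  have hmem : ∀ a : A, (g a).det ∈ (⊥ : IntermediateField k L) := by
    intro a
    rw [IsGalois.mem_bot_iff_fixed]
    intro σ
    have h1 := CSALib.charpoly_eq_of_homs hd g ((σ.toAlgHom.mapMatrix).comp g) a
    have h2 : ((σ.toAlgHom.mapMatrix).comp g a).det = (g a).det := by
      rw [Matrix.det_eq_sign_charpoly_coeff, Matrix.det_eq_sign_charpoly_coeff, h1]
    rw [AlgHom.comp_apply, ← AlgHom.map_det] at h2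
    exact h2
  choose v hv using fun a => IntermediateField.mem_bot.1 (hmem a)
  refine ⟨{ toFun := v, map_one' := ?_, map_mul' := fun a b => ?_ }, L, inferInstance, inferInstance, hfin, n, φ,
    fun a => ?_⟩
  · apply (algebraMap k L).injective
    rw [hv, map_one, map_one, Matrix.det_one]
  · apply (algebraMap k L).injective
    rw [map_mul, hv, hv, hv, map_mul, Matrix.det_mul]
  · show algebraMap k L (v a) = _
    rw [hv, CSALib.splitEquiv_tmul, one_smul]

theorem redNorm_algebraMap {N : A →* k} (hN : CSAGal.IsRedNorm k A N) {n : ℕ} (hd : Module.finrank k A = n * n)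
    (a : k) : N (algebraMap k A a) = a ^ n := by
  obtain ⟨K', _, _, _, n0, φ, hφ⟩ := hN
  have hn0 : n0 = n := by
    have h1 := φ.toLinearEquiv.finrank_eq
    rw [Module.finrank_baseChange, Module.finrank_matrix, Fintype.card_fin, hd, Module.finrank_self, mul_one] at h1
    exact (Nat.mul_self_inj.1 h1).symm
  apply (algebraMap k K').injective
  rw [hφ, map_pow]
  have h1 : (1 : K') ⊗ₜ[k] algebraMap k A a = algebraMap K' (K' ⊗[k] A) (algebraMap k K' a) := by
    rw [Algebra.TensorProduct.algebraMap_apply, Algebra.algebraMap_self, RingHom.id_apply,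
      Algebra.algebraMap_eq_smul_one, TensorProduct.tmul_smul, TensorProduct.smul_tmul', Algebra.smul_def, mul_one]
  rw [h1, AlgEquiv.commutes, Matrix.algebraMap_eq_diagonal, Matrix.det_diagonal, hn0]
  simp

/-- A finite subgroup mapping to an abelian group of exponent `p ^ m` with kernel of order prime to `p`. -/
theorem semidirect_of_hom {M Q : Type*} [Group M] [Group Q] (hc : ∀ a b : Q, a * b = b * a) (Φ : M →* Q) (G : Subgroup M) [Finite G] (p n' m : ℕ)
    [Fact p.Prime] (hn' : ¬ p ∣ n') (hQ : ∀ q : Q, q ^ p ^ m = 1)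
    (hord : ∀ h : G, Φ (h : M) = 1 → orderOf h ∣ n') :
    ∃ H S : Subgroup M, H ≤ G ∧ S ≤ G ∧ (∀ g ∈ G, ∀ h ∈ H, g * h * g⁻¹ ∈ H) ∧ H ⊓ S = ⊥ ∧ H ⊔ S = G ∧
      (∀ h ∈ H, ¬ p ∣ orderOf h) ∧ (∀ s ∈ S, ∀ t ∈ S, s * t = t * s) ∧ (∀ s ∈ S, s ^ p ^ m = 1) := by
  classical
  have hp := (Fact.out : p.Prime)
  let φ : G →* Q := Φ.comp G.subtype
  have hcopH : ¬ p ∣ Nat.card φ.ker := by
    intro hdvd
    obtain ⟨x, hx⟩ := exists_prime_orderOf_dvd_card' p hdvd
    refine hn' (hx ▸ ?_)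
    rw [← Subgroup.orderOf_coe x]
    exact hord x x.2
  have hP : IsPGroup p φ.range := fun q => ⟨m, Subtype.ext (by rw [Subgroup.coe_pow, hQ, Subgroup.coe_one])⟩
  haveI : Finite φ.range := Finite.of_surjective φ.rangeRestrict φ.rangeRestrict_surjective
  obtain ⟨j, hj⟩ := hP.exists_card_eq
  have hcop : (Nat.card φ.ker).Coprime φ.ker.index := by
    rw [Subgroup.index_ker, hj]
    exact Nat.Coprime.pow_right _ (Nat.coprime_comm.1 (hp.coprime_iff_not_dvd.2 hcopH))
  obtain ⟨S', hS'⟩ := Subgroup.exists_right_complement'_of_coprime hcop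
  have hinj : ∀ s ∈ S', φ s = 1 → s = 1 := fun s hs h =>
    Subgroup.disjoint_def.1 hS'.disjoint h hs
  have hconj : ∀ h : G, h ∈ φ.ker → ∀ g : G, g * h * g⁻¹ ∈ φ.ker := fun h hh g => by
    rw [MonoidHom.mem_ker] at hh ⊢
    rw [map_mul, map_mul, map_inv, hh, mul_one, mul_inv_cancel]
  refine ⟨φ.ker.map G.subtype, S'.map G.subtype, Subgroup.map_subtype_le _, Subgroup.map_subtype_le _, ?_, ?_, ?_,
    ?_, ?_, ?_⟩
  · rintro g hg _ ⟨h, hh, rfl⟩
    exact ⟨⟨g, hg⟩ * h * ⟨g, hg⟩⁻¹, (MonoidHom.normal_ker φ).conj_mem h hh ⟨g, hg⟩, rfl⟩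
  · rw [← Subgroup.map_inf _ _ _ (Subgroup.subtype_injective G), hS'.disjoint.eq_bot, Subgroup.map_bot]
  · rw [← Subgroup.map_sup, hS'.sup_eq_top, ← MonoidHom.range_eq_map, Subgroup.range_subtype]
  · rintro _ ⟨h, hh, rfl⟩
    rw [Subgroup.subtype_apply, Subgroup.orderOf_coe]
    exact fun hd => hn' (hd.trans (hord h hh))
  · rintro _ ⟨s, hs, rfl⟩ _ ⟨t, ht, rfl⟩
    rw [← map_mul, ← map_mul]
    refine congrArg G.subtype (inv_mul_eq_one.1 (hinj _ (S'.mul_mem (S'.inv_mem (S'.mul_mem hs ht)) (S'.mul_mem ht hs)) ?_))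
    rw [map_mul, map_inv, map_mul, map_mul, hc (φ s), inv_mul_cancel]
  · rintro _ ⟨s, hs, rfl⟩
    rw [← map_pow, hinj _ (S'.pow_mem hs _) (by rw [map_pow, hQ]), map_one]

end SBAutLib
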