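import Groth.Agent.SBActLib.Act
import Groth.Prelude.Def_BrSev2
import Mathlib.RingTheory.OrzechProperty
import Mathlib.RingTheory.Localization.AtPrime.Basic
import Mathlib.LinearAlgebra.Matrix.ToLin

/-!
# Points of the Severi–Brauer functor: comparisons and rank one left ideals
-/

set_option autoImplicit false

universe u

open scoped TensorProduct

namespace SBAutLib

noncomputable section

theorem injective_of_surjective_rank {R M M' : Type u} [CommRing R] [AddCommGroup M] [Module R M] [AddCommGroup M']
    [Module R M'] [Module.Finite R M] [Module.Projective R M] [Module.Finite R M'] [Module.Projective R M']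
    (f : M →ₗ[R] M') (hf : Function.Surjective f)
    (h : Module.rankAtStalk (R := R) M = Module.rankAtStalk (R := R) M') : Function.Injective f := by
  obtain ⟨g, hg⟩ := Module.projective_lifting_property f LinearMap.id hf
  let r : M →ₗ[R] LinearMap.ker f := (LinearMap.id - g.comp f).codRestrict _ fun m => by
    have := LinearMap.congr_fun hg (f m)
    simp only [LinearMap.comp_apply, LinearMap.id_apply] at this
    simp [LinearMap.mem_ker, map_sub, this]
  have hr : r.comp (LinearMap.ker f).subtype = LinearMap.id := by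
    refine LinearMap.ext fun x => Subtype.ext ?_
    show (x : M) - g (f x) = x
    rw [LinearMap.mem_ker.1 x.2, map_zero, sub_zero]
  have hrs : Function.Surjective r := fun x => ⟨x, LinearMap.congr_fun hr x⟩
  haveI : Module.Finite R (LinearMap.ker f) := Module.Finite.of_surjective r hrs
  haveI : Module.Projective R (LinearMap.ker f) := Module.Projective.of_split (LinearMap.ker f).subtype r hr
  let e : M ≃ₗ[R] (LinearMap.ker f × M') :=
    { LinearMap.prod r f with
      invFun := fun y => (y.1 : M) + g y.2
      left_inv := fun m => by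
        show (m - g (f m)) + g (f m) = m
        rw [sub_add_cancel]
      right_inv := fun y => by
        have h1 := LinearMap.congr_fun hg y.2
        simp only [LinearMap.comp_apply, LinearMap.id_apply] at h1
        refine Prod.ext (Subtype.ext ?_) ?_
        · show ((y.1 : M) + g y.2) - g (f ((y.1 : M) + g y.2)) = y.1
          rw [map_add, LinearMap.mem_ker.1 y.1.2, zero_add, h1, add_sub_cancel_right]
        · show f ((y.1 : M) + g y.2) = y.2
          rw [map_add, LinearMap.mem_ker.1 y.1.2, zero_add, h1] }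
  rw [Module.rankAtStalk_eq_of_equiv e, Module.rankAtStalk_prod, add_eq_right,
    Module.rankAtStalk_eq_zero_iff_subsingleton] at h
  rw [← LinearMap.ker_eq_bot]
  exact Submodule.subsingleton_iff_eq_bot.1 h

variable {k : Type u} [Field k] {A : Type u} [Ring A] [Algebra k A] {c : ℕ}

/-- A point containing another is equal to it. -/
theorem eq_of_le {R : Type u} [CommRing R] [Algebra k R] (N M : BrSev.SBSet k A c R)
    (h : N.1.toSubmodule ≤ M.1.toSubmodule) : N = M := by
  refine SBActLib.sbset_ext (le_antisymm h fun x hx => ?_)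
  have hi := injective_of_surjective_rank (Submodule.factor h) (Submodule.factor_surjective h)
    (funext fun q => (N.1.rankAtStalk_eq q).trans (M.1.rankAtStalk_eq q).symm)
  have h1 : Submodule.factor h (Submodule.Quotient.mk x) = Submodule.factor h 0 := by
    rw [map_zero]
    exact (Submodule.Quotient.mk_eq_zero _).2 hx
  exact (Submodule.Quotient.mk_eq_zero _).1 (hi h1)

/-- base change of a point -/
def pmap {R S : Type u} [CommRing R] [Algebra k R] [CommRing S] [Algebra k S] (φ : R →ₐ[k] S)
    (N : BrSev.SBSet k A c R) : Submodule S (S ⊗[k] A) :=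
  Submodule.span S (Algebra.TensorProduct.map φ (AlgHom.id k A) '' (N.1.toSubmodule : Set (R ⊗[k] A)))

theorem map_eq_pmap {R S : Type u} [CommRing R] [Algebra k R] [CommRing S] [Algebra k S] (φ : R →ₐ[k] S)
    (N : BrSev.SBSet k A c R) : (Module.Grassmannian.map φ N.1).toSubmodule = pmap φ N := by
  letI : Algebra R S := φ.toAlgebra
  haveI : IsScalarTower k R S := IsScalarTower.of_algebraMap_eq fun a => (φ.commutes a).symm
  rw [Module.Grassmannian.map_toSubmodule, Module.Grassmannian.baseChangeMkQ]
  let e := (TensorProduct.AlgebraTensorModule.cancelBaseChange k R S S A).symm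
  have he : ∀ z : R ⊗[k] A, e (Algebra.TensorProduct.map φ (AlgHom.id k A) z) = (1 : S) ⊗ₜ[R] z := by
    intro z
    induction z using TensorProduct.induction_on with
    | zero => simp
    | add x y hx hy => rw [map_add, map_add, hx, hy, TensorProduct.tmul_add]
    | tmul r a =>
      rw [Algebra.TensorProduct.map_tmul, TensorProduct.AlgebraTensorModule.cancelBaseChange_symm_tmul,
        show (r ⊗ₜ[k] a : R ⊗[k] A) = r • ((1 : R) ⊗ₜ[k] a) by rw [TensorProduct.smul_tmul', smul_eq_mul, mul_one],
        TensorProduct.tmul_smul, TensorProduct.smul_tmul', Algebra.smul_def, mul_one, AlgHom.id_apply]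
      rfl
  refine le_antisymm (fun z hz => ?_) ?_
  · have hex : Function.Exact (N.1.toSubmodule.subtype.lTensor S) (N.1.toSubmodule.mkQ.lTensor S) :=
      lTensor_exact S (LinearMap.exact_subtype_mkQ _) (Submodule.mkQ_surjective _)
    rw [LinearMap.mem_ker, LinearMap.comp_apply] at hz
    obtain ⟨w, hw⟩ := (hex (e z)).1 hz
    suffices h : ∀ w : S ⊗[R] N.1.toSubmodule,
        e.symm (N.1.toSubmodule.subtype.lTensor S w) ∈ pmap φ N by
      have := h w
      rwa [hw, LinearEquiv.symm_apply_apply] at this
    intro w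
    induction w using TensorProduct.induction_on with
    | zero => simp
    | add x y hx hy => rw [map_add, map_add]; exact add_mem hx hy
    | tmul s x =>
      rw [LinearMap.lTensor_tmul, show (s ⊗ₜ[R] (N.1.toSubmodule.subtype x)) = s • ((1 : S) ⊗ₜ[R] (x : R ⊗[k] A)) by
        rw [TensorProduct.smul_tmul', smul_eq_mul, mul_one]; rfl, map_smul, ← he, LinearEquiv.symm_apply_apply]
      exact Submodule.smul_mem _ _ (Submodule.subset_span ⟨x, x.2, rfl⟩)
  · rw [pmap, Submodule.span_le]
    rintro _ ⟨x, hx, rfl⟩
    rw [SetLike.mem_coe, LinearMap.mem_ker, LinearMap.comp_apply, LinearEquiv.coe_coe, he,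
      LinearMap.baseChange_tmul, Submodule.mkQ_apply, (Submodule.Quotient.mk_eq_zero _).2 hx, TensorProduct.tmul_zero]

theorem eq_of_map_eq {R : Type u} [CommRing R] [Algebra k R] {ι : Type u} (T : ι → Type u)
    [∀ i, CommRing (T i)] [∀ i, Algebra k (T i)] (φ : ∀ i, R →ₐ[k] T i)
    (hφ : ∀ r : R, (∀ i, φ i r = 0) → r = 0) (N M : BrSev.SBSet k A c R)
    (h : ∀ i, (Module.Grassmannian.map (φ i) N.1).toSubmodule = (Module.Grassmannian.map (φ i) M.1).toSubmodule) :
    N = M := by
  refine eq_of_le N M fun x hx => ?_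
  refine (Submodule.Quotient.mk_eq_zero _).1 ?_
  refine (Module.forall_dual_apply_eq_zero_iff R _).1 fun l => ?_
  refine hφ _ fun i => ?_
  have h1 : Algebra.TensorProduct.map (φ i) (AlgHom.id k A) x ∈ pmap (φ i) M := by
    rw [← map_eq_pmap, ← h i, map_eq_pmap]
    exact Submodule.subset_span ⟨x, hx, rfl⟩
  letI : Algebra R (T i) := (φ i).toAlgebra
  haveI : IsScalarTower k R (T i) := IsScalarTower.of_algebraMap_eq fun a => ((φ i).commutes a).symm
  let f : (R ⊗[k] A) →ₗ[R] R := l.comp M.1.toSubmodule.mkQ
  let F : (T i) ⊗[k] A →ₗ[T i] T i :=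
    ((TensorProduct.AlgebraTensorModule.rid R (T i) (T i)).toLinearMap.comp (f.baseChange (T i))).comp
      (TensorProduct.AlgebraTensorModule.cancelBaseChange k R (T i) (T i) A).symm.toLinearMap
  have hF : ∀ z : R ⊗[k] A, F (Algebra.TensorProduct.map (φ i) (AlgHom.id k A) z) = φ i (f z) := by
    intro z
    induction z using TensorProduct.induction_on with
    | zero => simp
    | add a b ha hb => simp only [map_add, ha, hb]
    | tmul r a =>
      simp only [F, LinearMap.comp_apply, LinearEquiv.coe_coe, Algebra.TensorProduct.map_tmul, AlgHom.id_apply,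
        TensorProduct.AlgebraTensorModule.cancelBaseChange_symm_tmul, LinearMap.baseChange_tmul,
        TensorProduct.AlgebraTensorModule.rid_tmul]
      rw [show (r ⊗ₜ[k] a : R ⊗[k] A) = r • ((1 : R) ⊗ₜ[k] a) by rw [TensorProduct.smul_tmul', smul_eq_mul, mul_one],
        map_smul, smul_eq_mul, map_mul, Algebra.smul_def, mul_comm]
      rfl
  have h2 : pmap (φ i) M ≤ LinearMap.ker F := by
    rw [pmap, Submodule.span_le]
    rintro _ ⟨y, hy, rfl⟩
    rw [SetLike.mem_coe, LinearMap.mem_ker, hF]
    show φ i (l (Submodule.Quotient.mk y)) = 0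
    rw [(Submodule.Quotient.mk_eq_zero _).2 hy, map_zero, map_zero]
  have h3 := LinearMap.mem_ker.1 (h2 h1)
  rwa [hF] at h3

/-- points agreeing on all localisations at maximal ideals are equal -/
theorem eq_of_localizations {R : Type u} [CommRing R] [Algebra k R] (N M : BrSev.SBSet k A c R)
    (h : ∀ (m : Ideal R) [m.IsMaximal],
      (Module.Grassmannian.map (IsScalarTower.toAlgHom k R (Localization.AtPrime m)) N.1).toSubmodule =
        (Module.Grassmannian.map (IsScalarTower.toAlgHom k R (Localization.AtPrime m)) M.1).toSubmodule) : N = M := by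
  refine eq_of_map_eq (ι := MaximalSpectrum R) (fun m => Localization.AtPrime m.asIdeal)
    (fun m => IsScalarTower.toAlgHom k R (Localization.AtPrime m.asIdeal)) (fun r hr => ?_) N M
    (fun m => h m.asIdeal)
  by_contra hr0
  obtain ⟨m, hm, hle⟩ := Ideal.exists_le_maximal (LinearMap.ker (LinearMap.toSpanSingleton R R r)) (fun h => hr0 (by
    have h1 : (1 : R) ∈ LinearMap.ker (LinearMap.toSpanSingleton R R r) := h.ge trivial
    simpa using h1))
  obtain ⟨⟨t, ht⟩, htr⟩ := (IsLocalization.map_eq_zero_iff m.primeCompl (Localization.AtPrime m) r).1 (hr ⟨m, hm⟩)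
  refine ht (hle ?_)
  rw [LinearMap.mem_ker, LinearMap.toSpanSingleton_apply, smul_eq_mul]
  exact htr

section Matrix

variable (n : ℕ) {K₀ : Type u} [Field K₀] [Algebra k K₀]

/-- A splitting homomorphism. -/
structure Split (k : Type u) [Field k] (A : Type u) [Ring A] [Algebra k A] (n : ℕ) (K₀ : Type u) [Field K₀]
    [Algebra k K₀] where
  /-- the splitting -/
  e : K₀ ⊗[k] A ≃ₐ[K₀] Matrix (Fin n) (Fin n) K₀

variable {n} (s : Split k A n K₀)
variable (R : Type u) [CommRing R] [Algebra k R] [Algebra K₀ R] [IsScalarTower k K₀ R]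

/-- The matrix of an element. -/
def toMat : R ⊗[k] A →ₐ[R] Matrix (Fin n) (Fin n) R :=
  Algebra.TensorProduct.lift (Algebra.ofId R (Matrix (Fin n) (Fin n) R))
    (((IsScalarTower.toAlgHom k K₀ R).mapMatrix).comp
      ((s.e.toAlgHom.restrictScalars k).comp Algebra.TensorProduct.includeRight))
    fun r a => Algebra.commutes r _

theorem toMat_tmul (r : R) (a : A) :
    toMat s R (r ⊗ₜ[k] a) = r • (s.e ((1 : K₀) ⊗ₜ[k] a)).map (algebraMap K₀ R) := by
  rw [Algebra.smul_def]
  rfl

theorem toMat_map {S : Type u} [CommRing S] [Algebra k S] [Algebra K₀ S] [IsScalarTower k K₀ S]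
    (φ : R →ₐ[K₀] S) (x : R ⊗[k] A) :
    toMat s S (Algebra.TensorProduct.map (φ.restrictScalars k) (AlgHom.id k A) x) = (toMat s R x).map φ := by
  induction x using TensorProduct.induction_on with
  | zero => simp
  | add a b ha hb => rw [map_add, map_add, map_add, ha, hb, Matrix.map_add φ (map_add φ)]
  | tmul r a =>
    ext i j
    simp [Algebra.TensorProduct.map_tmul, toMat_tmul]

theorem toMat_surjective : Function.Surjective (toMat s R) := by
  intro M
  have h : ∀ i j : Fin n, Matrix.single i j (1 : R) ∈ LinearMap.range (toMat s R).toLinearMap := by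
    intro i j
    let φ : K₀ →ₐ[k] R := IsScalarTower.toAlgHom k K₀ R
    refine ⟨Algebra.TensorProduct.map φ (AlgHom.id k A) (s.e.symm (Matrix.single i j 1)), ?_⟩
    have key : ∀ z : K₀ ⊗[k] A,
        toMat s R (Algebra.TensorProduct.map φ (AlgHom.id k A) z) = (s.e z).map (algebraMap K₀ R) := by
      intro z
      induction z using TensorProduct.induction_on with
      | zero => simp
      | add a b ha hb => rw [map_add, map_add, map_add, ha, hb, Matrix.map_add (algebraMap K₀ R) (map_add _)]
      | tmul c a =>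
        rw [Algebra.TensorProduct.map_tmul, toMat_tmul, AlgHom.id_apply,
          show c ⊗ₜ[k] a = c • ((1 : K₀) ⊗ₜ[k] a) by rw [TensorProduct.smul_tmul', smul_eq_mul, mul_one], map_smul]
        ext a b
        simp [φ]
    show toMat s R _ = _
    rw [key, s.e.apply_symm_apply, Matrix.map_single]
    simp
  have : M ∈ LinearMap.range (toMat s R).toLinearMap := by
    rw [Matrix.matrix_eq_sum_single M]
    refine Submodule.sum_mem _ fun i _ => Submodule.sum_mem _ fun j _ => ?_
    rw [show Matrix.single i j (M i j) = M i j • Matrix.single i j (1 : R) by rw [Matrix.smul_single, smul_eq_mul, mul_one]]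
    exact Submodule.smul_mem _ _ (h i j)
  exact this

theorem toMat_bijective [Module.Finite k A] (hA : Module.finrank k A = n * n) : Function.Bijective (toMat s R) := by
  refine ⟨?_, toMat_surjective s R⟩
  rcases subsingleton_or_nontrivial R with hR | hR
  · haveI : Subsingleton (R ⊗[k] A) := Module.subsingleton R _
    exact Function.injective_of_subsingleton _
  refine injective_of_surjective_rank (toMat s R).toLinearMap (toMat_surjective s R) ?_
  rw [Module.rankAtStalk_eq_finrank_of_free, Module.rankAtStalk_eq_finrank_of_free]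
  congr 1
  rw [Module.finrank_baseChange, hA, Module.finrank_matrix, Module.finrank_self, mul_one, Fintype.card_fin]

/-- The identification with matrices. -/
def mat [Module.Finite k A] (hA : Module.finrank k A = n * n) : R ⊗[k] A ≃ₐ[R] Matrix (Fin n) (Fin n) R :=
  AlgEquiv.ofBijective (toMat s R) (toMat_bijective s R hA)

theorem mat_apply [Module.Finite k A] (hA : Module.finrank k A = n * n) (x : R ⊗[k] A) : mat s R hA x = toMat s R x := rfl

/-- The left ideal of matrices with rows in the line of `v`. -/
def line [Module.Finite k A] (hA : Module.finrank k A = n * n) (v : Fin n → R) : (Fin n → R) →ₗ[R] R ⊗[k] A :=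
  (mat s R hA).symm.toLinearMap.comp (M₂ := Matrix (Fin n) (Fin n) R) (σ₁₂ := RingHom.id R)
    { toFun := fun a => Matrix.vecMulVec a v
      map_add' := fun a b => Matrix.add_vecMulVec a b v
      map_smul' := fun r a => Matrix.smul_vecMulVec r a v }

variable [Module.Finite k A] (hA : Module.finrank k A = n * n)

theorem mat_line (v a : Fin n → R) : mat s R hA (line s R hA v a) = Matrix.vecMulVec a v :=
  (mat s R hA).apply_symm_apply _

/-- The point of a unimodular vector. -/
def pt (v : Fin n → R) (hv : ∃ w : Fin n → R, ∑ j, v j * w j = 1) : BrSev.SBSet k A (n * n - n) R := by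
  refine ⟨{ toSubmodule := LinearMap.range (line s R hA v)
            finite_quotient := inferInstance
            projective_quotient := ?_
            rankAtStalk_eq := ?_ }, ?_⟩
  · obtain ⟨w, hw⟩ := hv
    let r : R ⊗[k] A →ₗ[R] (Fin n → R) :=
      { toFun := fun x => Matrix.mulVec (mat s R hA x) w
        map_add' := fun x y => by rw [map_add, Matrix.add_mulVec]
        map_smul' := fun t x => by rw [map_smul, Matrix.smul_mulVec, RingHom.id_apply] }
    have hr : ∀ a, r (line s R hA v a) = a := fun a => by
      show Matrix.mulVec (mat s R hA _) w = a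
      rw [mat_line]
      funext i
      simp [Matrix.mulVec, dotProduct, Matrix.vecMulVec_apply, mul_assoc, ← Finset.mul_sum, hw]
    let σ : R ⊗[k] A →ₗ[R] R ⊗[k] A := LinearMap.id - (line s R hA v).comp r
    have hσ : LinearMap.range (line s R hA v) ≤ LinearMap.ker σ := by
      rintro _ ⟨a, rfl⟩
      simp [σ, hr]
    refine Module.Projective.of_split (Submodule.liftQ _ σ hσ) (LinearMap.range (line s R hA v)).mkQ ?_
    refine Submodule.linearMap_qext _ (LinearMap.ext fun x => ?_)
    show Submodule.Quotient.mk (x - line s R hA v (r x)) = Submodule.Quotient.mk x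
    rw [Submodule.Quotient.eq]
    exact ⟨-r x, by simp⟩
  · intro q
    haveI : Nontrivial R := q.nontrivial
    obtain ⟨w, hw⟩ := hv
    have hinj : Function.Injective (line s R hA v) := by
      intro a b hab
      have := congrArg (fun x => Matrix.mulVec (mat s R hA x) w) hab
      simp only [mat_line] at this
      funext i
      have := congrFun this i
      simpa [Matrix.mulVec, dotProduct, Matrix.vecMulVec_apply, mul_assoc, ← Finset.mul_sum, hw] using this
    let r : R ⊗[k] A →ₗ[R] (Fin n → R) :=
      { toFun := fun x => Matrix.mulVec (mat s R hA x) w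
        map_add' := fun x y => by rw [map_add, Matrix.add_mulVec]
        map_smul' := fun t x => by rw [map_smul, Matrix.smul_mulVec, RingHom.id_apply] }
    have hr : ∀ a, r (line s R hA v a) = a := fun a => by
      show Matrix.mulVec (mat s R hA _) w = a
      rw [mat_line]
      funext i
      simp [Matrix.mulVec, dotProduct, Matrix.vecMulVec_apply, mul_assoc, ← Finset.mul_sum, hw]
    let L := LinearMap.range (line s R hA v)
    let E : (R ⊗[k] A) ≃ₗ[R] ((R ⊗[k] A) ⧸ L) × (Fin n → R) :=
      LinearEquiv.ofBijective (LinearMap.prod L.mkQ r) ⟨by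
        rw [← LinearMap.ker_eq_bot, eq_bot_iff]
        intro x hx
        replace hx : L.mkQ x = 0 ∧ r x = 0 := Prod.mk_eq_zero.1 hx
        obtain ⟨a, rfl⟩ := (Submodule.Quotient.mk_eq_zero _).1 hx.1
        rw [hr] at hx
        rw [hx.2, map_zero]
        exact Submodule.zero_mem _, fun y => by
        obtain ⟨x, hx⟩ := Submodule.mkQ_surjective L y.1
        refine ⟨x + line s R hA v (y.2 - r x), ?_⟩
        have h1 : L.mkQ (line s R hA v (y.2 - r x)) = 0 := (Submodule.Quotient.mk_eq_zero _).2 ⟨_, rfl⟩
        show (L.mkQ (x + line s R hA v (y.2 - r x)), r (x + line s R hA v (y.2 - r x))) = y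
        rw [map_add, map_add, hr, hx, h1, add_zero, add_sub_cancel]⟩
    haveI : Module.Projective R ((R ⊗[k] A) ⧸ L) :=
      Module.Projective.of_split (E.symm.toLinearMap.comp (LinearMap.inl R _ _)) ((LinearMap.fst R _ _).comp E.toLinearMap)
        (LinearMap.ext fun y => by simp)
    have hrk := Module.rankAtStalk_eq_of_equiv E
    rw [Module.rankAtStalk_prod, Module.rankAtStalk_eq_finrank_of_free (M := R ⊗[k] A),
      Module.rankAtStalk_eq_finrank_of_free (M := Fin n → R),
      Module.finrank_baseChange, hA, Module.finrank_pi, Fintype.card_fin] at hrk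
    have := congrFun hrk q
    simp only [Pi.add_apply, Pi.natCast_apply] at this
    simp only [Nat.cast_id] at this
    show Module.rankAtStalk ((R ⊗[k] A) ⧸ L) q = _
    omega
  · rintro a _ ⟨b, rfl⟩
    refine ⟨Matrix.mulVec (mat s R hA a) b, ?_⟩
    apply (mat s R hA).injective
    rw [map_mul, mat_line, mat_line, Matrix.mul_vecMulVec]

theorem pt_le_of_mem {N : BrSev.SBSet k A (n * n - n) R} (v : Fin n → R) (hv : ∃ w : Fin n → R, ∑ j, v j * w j = 1)
    (x : R ⊗[k] A) (hx : x ∈ N.1.toSubmodule) (i : Fin n) (h : v = mat s R hA x i) : pt s R hA v hv = N := by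
  refine eq_of_le _ _ ?_
  rintro _ ⟨a, rfl⟩
  have h1 : line s R hA v a = (mat s R hA).symm (Matrix.vecMulVec a (Pi.single i 1)) * x := by
    apply (mat s R hA).injective
    rw [mat_line, map_mul, AlgEquiv.apply_symm_apply, Matrix.vecMulVec_mul, Matrix.single_one_vecMul, h]
    rfl
  rw [h1]
  exact N.2 _ _ hx

theorem pmap_pt {S : Type u} [CommRing S] [Algebra k S] [Algebra K₀ S] [IsScalarTower k K₀ S] (φ : R →ₐ[K₀] S)
    (v : Fin n → R) (hv : ∃ w : Fin n → R, ∑ j, v j * w j = 1) :
    ∃ hv' : ∃ w : Fin n → S, ∑ j, φ (v j) * w j = 1,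
      (Module.Grassmannian.map (φ.restrictScalars k) (pt s R hA v hv).1).toSubmodule =
        (pt s S hA (fun j => φ (v j)) hv').1.toSubmodule := by
  obtain ⟨w, hw⟩ := hv
  refine ⟨⟨fun j => φ (w j), by simp only [← map_mul, ← map_sum, hw, map_one]⟩, ?_⟩
  rw [map_eq_pmap]
  refine le_antisymm ?_ ?_
  · rw [pmap, Submodule.span_le]
    rintro _ ⟨_, ⟨a, rfl⟩, rfl⟩
    refine ⟨fun j => φ (a j), ?_⟩
    apply (mat s S hA).injective
    rw [mat_line, mat_apply, toMat_map, ← mat_apply s R hA, mat_line]
    ext i j
    simp [Matrix.vecMulVec_apply]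
  · rintro _ ⟨b, rfl⟩
    rw [pi_eq_sum_univ b, map_sum]
    refine Submodule.sum_mem _ fun i _ => ?_
    rw [map_smul]
    refine Submodule.smul_mem _ _ (Submodule.subset_span ⟨line s R hA v (fun j => if i = j then 1 else 0), ⟨_, rfl⟩, ?_⟩)
    apply (mat s S hA).injective
    rw [mat_line, mat_apply, toMat_map, ← mat_apply s R hA, mat_line]
    ext a b
    by_cases hia : i = a <;> simp [Matrix.vecMulVec_apply, hia]

theorem pt_eq_iff (v v' : Fin n → R) (hv : ∃ w : Fin n → R, ∑ j, v j * w j = 1)
    (hv' : ∃ w : Fin n → R, ∑ j, v' j * w j = 1) (hn : 0 < n) :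
    pt s R hA v hv = pt s R hA v' hv' ↔ ∃ t : R, v = t • v' := by
  constructor
  · intro h
    have h1 : line s R hA v (Pi.single ⟨0, hn⟩ 1) ∈ (pt s R hA v' hv').1.toSubmodule := by
      rw [← h]; exact ⟨_, rfl⟩
    obtain ⟨a, ha⟩ := h1
    have h2 := congrArg (mat s R hA) ha
    rw [mat_line, mat_line] at h2
    refine ⟨a ⟨0, hn⟩, funext fun j => ?_⟩
    have := congrFun (congrFun h2 ⟨0, hn⟩) j
    simpa [Matrix.vecMulVec_apply] using this.symm
  · rintro ⟨t, rfl⟩
    refine eq_of_le _ _ ?_
    rintro _ ⟨a, rfl⟩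
    refine ⟨t • a, ?_⟩
    apply (mat s R hA).injective
    rw [mat_line, mat_line, Matrix.smul_vecMulVec, Matrix.vecMulVec_smul]

theorem exists_pt_of_local [IsLocalRing R] (hn : 0 < n) (N : BrSev.SBSet k A (n * n - n) R) :
    ∃ (v : Fin n → R) (hv : ∃ w : Fin n → R, ∑ j, v j * w j = 1), (∃ j, IsUnit (v j)) ∧ pt s R hA v hv = N := by
  by_cases h : ∃ x ∈ N.1.toSubmodule, ∃ i j, IsUnit (mat s R hA x i j)
  · obtain ⟨x, hx, i, j, hu⟩ := h
    obtain ⟨u, huv⟩ := hu
    have hv : ∃ w : Fin n → R, ∑ l, mat s R hA x i l * w l = 1 :=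
      ⟨Pi.single j (↑u⁻¹ : R), by rw [Finset.sum_eq_single j (fun l _ hl => by simp [hl]) (by simp), Pi.single_eq_same, ← huv, Units.mul_inv]⟩
    exact ⟨_, hv, ⟨j, u, huv⟩, pt_le_of_mem s R hA _ hv x hx i rfl⟩
  · exfalso
    push Not at h
    let φ : R →ₐ[k] IsLocalRing.ResidueField R := IsScalarTower.toAlgHom k R _
    have h0 : (Module.Grassmannian.map φ N.1).toSubmodule = ⊥ := by
      rw [map_eq_pmap, pmap, Submodule.span_eq_bot]
      rintro _ ⟨x, hx, rfl⟩
      apply (mat s (IsLocalRing.ResidueField R) hA).injective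
      rw [map_zero, mat_apply]
      have e : toMat s (IsLocalRing.ResidueField R) (Algebra.TensorProduct.map φ (AlgHom.id k A) x) =
          (toMat s R x).map (IsScalarTower.toAlgHom K₀ R (IsLocalRing.ResidueField R)) :=
        toMat_map s R (IsScalarTower.toAlgHom K₀ R (IsLocalRing.ResidueField R)) x
      rw [e]
      ext i j
      rw [Matrix.map_apply, Matrix.zero_apply]
      show IsLocalRing.residue R (mat s R hA x i j) = 0
      rw [IsLocalRing.residue_eq_zero_iff, IsLocalRing.mem_maximalIdeal]
      exact h x hx i j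
    let q : PrimeSpectrum (IsLocalRing.ResidueField R) := ⟨⊥, Ideal.isPrime_bot⟩
    have h1 := (Module.Grassmannian.map φ N.1).rankAtStalk_eq q
    rw [h0, Module.rankAtStalk_eq_of_equiv (Submodule.quotEquivOfEqBot _ rfl),
      Module.rankAtStalk_eq_finrank_of_free, Pi.natCast_apply, Module.finrank_baseChange, hA] at h1
    simp only [Nat.cast_id] at h1
    have : 0 < n * n := Nat.mul_pos hn hn
    omega

end Matrix

end

end SBAutLib
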