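import Groth.Agent.SBAutLib.Basic
import Mathlib.RingTheory.MvPolynomial.Homogeneous
import Mathlib.RingTheory.Nullstellensatz
import Mathlib.RingTheory.Polynomial.UniqueFactorization
import Mathlib.LinearAlgebra.Matrix.ToLin

/-!
# Natural automorphisms of the functor of rank one left ideals of matrices are linear
-/

set_option autoImplicit false

universe u

open MvPolynomial
open scoped TensorProduct

namespace SBAutLib

noncomputable section

/-- A natural self-map of the points. -/
structure NatEnd (k : Type u) [Field k] (A : Type u) [Ring A] [Algebra k A] (c : ℕ) where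
  /-- on points -/
  app : ∀ (R : Type u) [CommRing R] [Algebra k R], BrSev.SBSet k A c R → BrSev.SBSet k A c R
  natural : ∀ (R S : Type u) [CommRing R] [Algebra k R] [CommRing S] [Algebra k S] (φ : R →ₐ[k] S)
    (N : BrSev.SBSet k A c R) (M : BrSev.SBSet k A c S),
    M.1.toSubmodule = (Module.Grassmannian.map φ N.1).toSubmodule →
      (app S M).1.toSubmodule = (Module.Grassmannian.map φ (app R N).1).toSubmodule

section Poly

variable {K : Type u} [Field K] {n : ℕ}

theorem eval_smul_of_homogeneous {g : MvPolynomial (Fin n) K} {m : ℕ} (hg : g.IsHomogeneous m) (t : K) (a : Fin n → K) :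
    eval (t • a) g = t ^ m * eval a g := by
  rw [eval_eq', eval_eq', Finset.mul_sum]
  refine Finset.sum_congr rfl fun d hd => ?_
  have hdeg : ∑ i, d i = m := by
    rw [← hg (mem_support_iff.1 hd), Finsupp.weight_apply, Finsupp.sum_fintype _ _ (fun i => by simp)]
    simp
  simp only [Pi.smul_apply, smul_eq_mul, mul_pow, Finset.prod_mul_distrib, Finset.prod_pow_eq_pow_sum, hdeg]
  ring

theorem homogeneousComponent_mul_right {g w : MvPolynomial (Fin n) K} {D : ℕ} (hw : w.IsHomogeneous D) (m : ℕ) :
    homogeneousComponent (m + D) (g * w) = homogeneousComponent m g * w := by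
  classical
  conv_lhs => rw [← sum_homogeneousComponent g, Finset.sum_mul, map_sum]
  rw [Finset.sum_congr rfl fun i _ => homogeneousComponent_of_mem (m := m + D)
    (((homogeneousComponent_isHomogeneous i g).mul hw : (homogeneousComponent i g * w).IsHomogeneous (i + D)))]
  rw [Finset.sum_eq_single m]
  · simp
  · intro i _ hi
    rw [if_neg (by omega)]
  · intro hm
    rw [Finset.mem_range, not_lt] at hm
    rw [if_pos rfl, homogeneousComponent_eq_zero _ _ (by omega), zero_mul]

theorem minor_of_ne_zero {R : Type*} [CommRing R] [IsDomain R] {l w x : Fin n → R} {j : Fin n} (hj : x j ≠ 0)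
    (hl : ∀ p q, l p * x q = l q * x p) (hw : ∀ p q, w p * x q = w q * x p) (p q : Fin n) :
    l p * w q = l q * w p := by
  apply mul_left_cancel₀ (mul_ne_zero hj hj)
  linear_combination (x j * w q) * hl p j - (x j * w p) * hl q j + (l j * x p) * hw q j - (l j * x q) * hw p j

end Poly

variable {k : Type u} [Field k] {A : Type u} [Ring A] [Algebra k A] [Module.Finite k A] {n : ℕ}
  {K : Type u} [Field K] [Algebra k K] (s : Split k A n K) (hA : Module.finrank k A = n * n)

/-- The point of a nonzero vector over a field. -/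
def ptK (a : Fin n → K) (ha : a ≠ 0) : BrSev.SBSet k A (n * n - n) K :=
  pt s K hA a (by
    obtain ⟨j, hj⟩ := Function.ne_iff.1 ha
    exact ⟨Pi.single j (a j)⁻¹, by
      rw [Finset.sum_eq_single j (fun l _ hl => by simp [hl]) (by simp), Pi.single_eq_same, mul_inv_cancel₀ hj]⟩)

theorem ptK_eq_iff (hn : 0 < n) (a b : Fin n → K) (ha : a ≠ 0) (hb : b ≠ 0) :
    ptK s hA a ha = ptK s hA b hb ↔ ∃ t : K, a = t • b :=
  pt_eq_iff s K hA a b _ _ hn

theorem exists_ptK (hn : 0 < n) (N : BrSev.SBSet k A (n * n - n) K) : ∃ (a : Fin n → K) (ha : a ≠ 0), ptK s hA a ha = N := by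
  obtain ⟨v, hv, ⟨j, hj⟩, h⟩ := exists_pt_of_local s K hA hn N
  exact ⟨v, fun h0 => by simp [h0] at hj, h⟩

theorem ne_zero_of_uni {R : Type*} [CommRing R] [Nontrivial R] {v : Fin n → R}
    (hv : ∃ w : Fin n → R, ∑ j, v j * w j = 1) : v ≠ 0 := by
  rintro rfl
  obtain ⟨w, hw⟩ := hv
  simp at hw

local notation "S" => MvPolynomial (Fin n) K

variable (K n) in
/-- evaluation -/
def evH (a : Fin n → K) : S →ₐ[K] K := aeval a

theorem evH_apply (a : Fin n → K) (g : S) : evH n K a g = eval a g := by
  rw [evH, ← coe_aeval_eq_eval]; rfl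

/-- A point over the polynomial ring is given by one vector. -/
theorem exists_pt_of_mvPolynomial [IsAlgClosed K] (hn : 0 < n) (N : BrSev.SBSet k A (n * n - n) S) :
    ∃ (v : Fin n → S) (hv : ∃ w : Fin n → S, ∑ j, v j * w j = 1), pt s S hA v hv = N := by
  classical
  let L : Set (Fin n → S) := {l | ∀ a : Fin n → S, (mat s S hA).symm (Matrix.vecMulVec a l) ∈ N.1.toSubmodule}
  have hrow : ∀ x ∈ N.1.toSubmodule, ∀ i, mat s S hA x i ∈ L := by
    intro x hx i a
    have h1 : (mat s S hA).symm (Matrix.vecMulVec a (mat s S hA x i)) =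
        (mat s S hA).symm (Matrix.vecMulVec a (Pi.single i 1)) * x := by
      apply (mat s S hA).injective
      rw [map_mul, AlgEquiv.apply_symm_apply, AlgEquiv.apply_symm_apply, Matrix.vecMulVec_mul, Matrix.single_one_vecMul]
      rfl
    rw [h1]
    exact N.2 _ _ hx
  have hsat : ∀ (r : S) (l : Fin n → S), r ≠ 0 → r • l ∈ L → l ∈ L := by
    intro r l hr hl a
    refine (Submodule.Quotient.mk_eq_zero _).1 ((Module.forall_dual_apply_eq_zero_iff S _).1 fun φ => ?_)
    have h1 := hl a
    rw [Matrix.vecMulVec_smul, map_smul, ← Submodule.Quotient.mk_eq_zero, Submodule.Quotient.mk_smul] at h1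
    have h2 := congrArg φ h1
    rw [map_smul, map_zero, smul_eq_mul] at h2
    exact (mul_eq_zero.1 h2).resolve_left hr
  have hne : ∃ l ∈ L, l ≠ 0 := by
    by_contra! h
    have hbot : N.1.toSubmodule = ⊥ := by
      rw [eq_bot_iff]
      intro x hx
      rw [Submodule.mem_bot]
      apply (mat s S hA).injective
      rw [map_zero]
      funext i
      exact h _ (hrow x hx i)
    let q : PrimeSpectrum S := ⟨⊥, Ideal.isPrime_bot⟩
    have h1 := N.1.rankAtStalk_eq q
    rw [hbot, Module.rankAtStalk_eq_of_equiv (Submodule.quotEquivOfEqBot _ rfl),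
      Module.rankAtStalk_eq_finrank_of_free, Pi.natCast_apply, Module.finrank_baseChange, hA] at h1
    simp only [Nat.cast_id] at h1
    have : 0 < n * n := Nat.mul_pos hn hn
    omega
  have hpmap : ∀ (a : Fin n → K) (x : S ⊗[k] A), x ∈ N.1.toSubmodule →
      Algebra.TensorProduct.map ((evH n K a).restrictScalars k) (AlgHom.id k A) x ∈
        (Module.Grassmannian.map ((evH n K a).restrictScalars k) N.1).toSubmodule := fun a x hx => by
    rw [map_eq_pmap]; exact Submodule.subset_span ⟨x, hx, rfl⟩
  have hprop : ∀ l ∈ L, ∀ l' ∈ L, ∀ p q, l p * l' q = l q * l' p := by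
    intro l hl l' hl' p q
    refine MvPolynomial.funext fun a => ?_
    let Na : BrSev.SBSet k A (n * n - n) K := ⟨Module.Grassmannian.map ((evH n K a).restrictScalars k) N.1, by
      intro b x hx
      rw [map_eq_pmap] at hx ⊢
      induction hx using Submodule.span_induction with
      | mem x hx =>
        obtain ⟨y, hy, rfl⟩ := hx
        induction b using TensorProduct.induction_on with
        | zero => rw [zero_mul]; exact Submodule.zero_mem _
        | add u v hu hv => rw [add_mul]; exact Submodule.add_mem _ hu hv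
        | tmul c d =>
          have e : (c ⊗ₜ[k] d : K ⊗[k] A) * Algebra.TensorProduct.map ((evH n K a).restrictScalars k) (AlgHom.id k A) y =
              c • Algebra.TensorProduct.map ((evH n K a).restrictScalars k) (AlgHom.id k A) (((1 : S) ⊗ₜ[k] d) * y) := by
            rw [map_mul, Algebra.TensorProduct.map_tmul, map_one, AlgHom.id_apply, ← smul_mul_assoc,
              TensorProduct.smul_tmul', smul_eq_mul, mul_one]
          rw [e]
          exact Submodule.smul_mem _ _ (Submodule.subset_span ⟨_, N.2 _ _ hy, rfl⟩)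
      | zero => rw [mul_zero]; exact Submodule.zero_mem _
      | add u v _ _ hu hv => rw [mul_add]; exact Submodule.add_mem _ hu hv
      | smul t u _ hu => rw [mul_smul_comm]; exact Submodule.smul_mem _ _ hu⟩
    obtain ⟨c, hc, hNa⟩ := exists_ptK s hA hn Na
    have key : ∀ m ∈ L, ∃ t : K, (fun j => eval a (m j)) = t • c := by
      intro m hm
      have h1 := hpmap a _ (hm (Pi.single ⟨0, hn⟩ 1))
      change _ ∈ Na.1.toSubmodule at h1
      rw [← hNa] at h1
      obtain ⟨b, hb⟩ := h1
      have h2 := congrArg (mat s K hA) hb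
      rw [mat_line, mat_apply, toMat_map, ← mat_apply s S hA, AlgEquiv.apply_symm_apply] at h2
      refine ⟨b ⟨0, hn⟩, funext fun j => ?_⟩
      have := congrFun (congrFun h2 ⟨0, hn⟩) j
      simp [Matrix.vecMulVec_apply, evH_apply] at this
      simpa using this.symm
    obtain ⟨t, ht⟩ := key l hl
    obtain ⟨t', ht'⟩ := key l' hl'
    simp only [map_mul]
    rw [show eval a (l p) = t * c p from congrFun ht p, show eval a (l q) = t * c q from congrFun ht q,
      show eval a (l' p) = t' * c p from congrFun ht' p, show eval a (l' q) = t' * c q from congrFun ht' q]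
    ring
  have hex : ∃ m : ℕ, ∃ l ∈ L, l ≠ 0 ∧ ∑ j, (l j).totalDegree = m :=
    ⟨_, hne.choose, hne.choose_spec.1, hne.choose_spec.2, rfl⟩
  obtain ⟨v, hvL, hv0, hvd⟩ := Nat.find_spec hex
  obtain ⟨j, hj⟩ := Function.ne_iff.1 hv0
  have hspan : ∀ l ∈ L, ∃ r : S, l = r • v := by
    intro l hl
    obtain ⟨a', b', c', hrel, ha, hb⟩ := UniqueFactorizationMonoid.exists_reduced_factors (v j) hj (l j)
    have hc' : c' ≠ 0 := fun h => hj (by rw [Pi.zero_apply, ← ha, h, zero_mul])
    have hav : ∀ q, a' * l q = b' * v q := fun q => by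
      apply mul_left_cancel₀ hc'
      have := hprop v hvL l hl j q
      linear_combination this + l q * ha - v q * hb
    have hdvd : ∀ q, a' ∣ v q := fun q => hrel.dvd_of_dvd_mul_left ⟨l q, (hav q).symm⟩
    choose g hg using hdvd
    have ha0 : a' ≠ 0 := fun h => hj (by rw [Pi.zero_apply, ← ha, h, mul_zero])
    have hgL : g ∈ L := hsat a' g ha0 (by
      rwa [show a' • g = v from funext fun q => (hg q).symm])
    have hg0 : g ≠ 0 := fun h => hj (by rw [hg j, h]; simp)
    have hdeg : a'.totalDegree = 0 := by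
      by_contra hd
      refine Nat.find_min hex (m := ∑ q, (g q).totalDegree) ?_ ⟨g, hgL, hg0, rfl⟩
      rw [← hvd]
      refine Finset.sum_lt_sum (fun q _ => ?_) ⟨j, Finset.mem_univ _, ?_⟩
      · by_cases hgq : g q = 0
        · simp [hgq]
        · rw [hg q, totalDegree_mul_of_isDomain ha0 hgq]; omega
      · have hgj : g j ≠ 0 := fun h => hj (by rw [hg j, h]; simp)
        rw [hg j, totalDegree_mul_of_isDomain ha0 hgj]; omega
    have hC := totalDegree_eq_zero_iff_eq_C.1 hdeg
    have hc0 : a'.coeff 0 ≠ 0 := fun h => ha0 (by rw [hC, h, map_zero])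
    refine ⟨C (a'.coeff 0)⁻¹ * b', funext fun q => ?_⟩
    have h1 := hav q
    rw [hC] at h1
    rw [Pi.smul_apply, smul_eq_mul, mul_assoc, ← h1, ← mul_assoc, ← map_mul, inv_mul_cancel₀ hc0, map_one, one_mul]
  have hev : ∀ a : Fin n → K, ∃ q, eval a (v q) ≠ 0 := by
    intro a
    by_contra! h
    have h0 : (Module.Grassmannian.map ((evH n K a).restrictScalars k) N.1).toSubmodule = ⊥ := by
      rw [map_eq_pmap, pmap, Submodule.span_eq_bot]
      rintro _ ⟨x, hx, rfl⟩
      apply (mat s K hA).injective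
      rw [map_zero, mat_apply, toMat_map]
      ext i q
      obtain ⟨r, hr⟩ := hspan _ (hrow x hx i)
      rw [Matrix.map_apply, Matrix.zero_apply, evH_apply, ← mat_apply s S hA, congrFun hr q, Pi.smul_apply,
        smul_eq_mul, map_mul, h q, mul_zero]
    let q : PrimeSpectrum K := ⟨⊥, Ideal.isPrime_bot⟩
    have h1 := (Module.Grassmannian.map ((evH n K a).restrictScalars k) N.1).rankAtStalk_eq q
    rw [h0, Module.rankAtStalk_eq_of_equiv (Submodule.quotEquivOfEqBot _ rfl),
      Module.rankAtStalk_eq_finrank_of_free, Pi.natCast_apply, Module.finrank_baseChange, hA] at h1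
    simp only [Nat.cast_id] at h1
    have : 0 < n * n := Nat.mul_pos hn hn
    omega
  have htop : Ideal.span (Set.range v) = ⊤ := by
    by_contra h
    obtain ⟨m, hm, hle⟩ := Ideal.exists_le_maximal _ h
    obtain ⟨a, rfl⟩ := isMaximal_iff_eq_vanishingIdeal_singleton.1 hm
    obtain ⟨q, hq⟩ := hev a
    have := hle (Ideal.subset_span ⟨q, rfl⟩)
    rw [mem_vanishingIdeal_iff] at this
    refine hq ?_
    have := this a rfl
    rwa [← coe_aeval_eq_eval]
  obtain ⟨w, hw⟩ := Ideal.mem_span_range_iff_exists_fun.1 (htop.symm ▸ Submodule.mem_top : (1 : S) ∈ Ideal.span (Set.range v))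
  refine ⟨v, ⟨w, by rw [← hw]; exact Finset.sum_congr rfl fun q _ => mul_comm _ _⟩, ?_⟩
  refine eq_of_le _ _ ?_
  rintro _ ⟨a, rfl⟩
  exact hvL a

variable (G : NatEnd k A (n * n - n))

/-- The standard affine chart vector. -/
def chart (i : Fin n) : Fin n → S := Function.update X i 1

omit [Module.Finite k A] in
theorem chart_uni (i : Fin n) : ∃ w : Fin n → S, ∑ j, chart (K := K) i j * w j = 1 :=
  ⟨Pi.single i 1, by rw [Finset.sum_eq_single i (fun l _ hl => by simp [hl]) (by simp)]; simp [chart]⟩

theorem app_pt_eval {v u : Fin n → S} (hv : ∃ w : Fin n → S, ∑ j, v j * w j = 1) (hu : ∃ w : Fin n → S, ∑ j, u j * w j = 1)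
    (h : G.app S (pt s S hA u hu) = pt s S hA v hv) (a : Fin n → K) :
    ∃ (h1 : (fun j => eval a (u j)) ≠ 0) (h2 : (fun j => eval a (v j)) ≠ 0),
      G.app K (ptK s hA _ h1) = ptK s hA _ h2 := by
  obtain ⟨h1, e1⟩ := pmap_pt s S hA (evH n K a) u hu
  obtain ⟨h2, e2⟩ := pmap_pt s S hA (evH n K a) v hv
  simp only [evH_apply] at h1 h2 e1 e2
  refine ⟨ne_zero_of_uni h1, ne_zero_of_uni h2, SBActLib.sbset_ext ?_⟩
  have h3 := G.natural S K ((evH n K a).restrictScalars k) (pt s S hA u hu) (ptK s hA _ (ne_zero_of_uni h1)) e1.symm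
  rw [h3, h, e2]
  rfl

/-- `G` is given everywhere by one tuple of forms. -/
theorem exists_forms [IsAlgClosed K] (hn : 0 < n) :
    ∃ (d : ℕ) (f : Fin n → S), (∀ j, (f j).IsHomogeneous d) ∧
      ∀ (a : Fin n → K) (ha : a ≠ 0), ∃ hb : (fun j => eval a (f j)) ≠ 0,
        G.app K (ptK s hA a ha) = ptK s hA _ hb := by
  classical
  have hchart : ∀ i : Fin n, ∃ v : Fin n → S, ∀ a : Fin n → K, a i = 1 → ∀ ha : a ≠ 0,
      ∃ h2 : (fun j => eval a (v j)) ≠ 0, G.app K (ptK s hA a ha) = ptK s hA _ h2 := by
    intro i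
    obtain ⟨v, hv, hvG⟩ := exists_pt_of_mvPolynomial s hA hn (G.app S (pt s S hA (chart i) (chart_uni i)))
    refine ⟨v, fun a hai ha => ?_⟩
    obtain ⟨h1, h2, e⟩ := app_pt_eval s hA G hv (chart_uni i) hvG.symm a
    refine ⟨h2, ?_⟩
    rw [← e]
    congr 1
    refine (ptK_eq_iff s hA hn _ _ ha h1).2 ⟨1, ?_⟩
    rw [one_smul]
    funext j
    by_cases hj : j = i
    · subst hj; simp [chart, hai]
    · simp [chart, hj]
  choose v hv using hchart
  let D : Fin n → ℕ := fun i => Finset.univ.sup fun j => (v i j).totalDegree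
  let w : Fin n → Fin n → S := fun i j =>
    ∑ m ∈ Finset.range (D i + 1), X i ^ (D i - m) * homogeneousComponent m (v i j)
  have hwh : ∀ i j, (w i j).IsHomogeneous (D i) := fun i j => by
    refine IsHomogeneous.sum _ _ _ fun m hm => ?_
    have := ((isHomogeneous_X K i).pow (D i - m)).mul (homogeneousComponent_isHomogeneous m (v i j))
    rwa [one_mul, Nat.sub_add_cancel (Nat.lt_succ_iff.1 (Finset.mem_range.1 hm))] at this
  have hw : ∀ (i : Fin n) (a : Fin n → K), a i ≠ 0 → ∀ ha : a ≠ 0, ∃ hb : (fun j => eval a (w i j)) ≠ 0,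
      G.app K (ptK s hA a ha) = ptK s hA _ hb := by
    intro i a hai ha
    let b := (a i)⁻¹ • a
    have hbi : b i = 1 := by simp [b, hai]
    have hb0 : b ≠ 0 := fun h => by simp [h] at hbi
    obtain ⟨h2, e⟩ := hv i b hbi hb0
    have hval : (fun j => eval a (w i j)) = (a i) ^ (D i) • fun j => eval b (v i j) := by
      funext j
      have hsum : v i j = ∑ m ∈ Finset.range (D i + 1), homogeneousComponent m (v i j) := by
        conv_lhs => rw [← sum_homogeneousComponent (v i j)]
        refine Finset.sum_subset (Finset.range_subset_range.2 (Nat.succ_le_succ (Finset.le_sup (f := fun j => (v i j).totalDegree) (Finset.mem_univ j)))) fun m _ hm => ?_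
        rw [Finset.mem_range, not_lt] at hm
        exact homogeneousComponent_eq_zero _ _ (by omega)
      rw [Pi.smul_apply, smul_eq_mul]
      conv_rhs => rw [hsum, map_sum, Finset.mul_sum]
      simp only [w, map_sum, map_mul, map_pow, eval_X]
      refine Finset.sum_congr rfl fun m hm => ?_
      rw [eval_smul_of_homogeneous (homogeneousComponent_isHomogeneous m (v i j)) (a i)⁻¹ a]
      rw [← mul_assoc, inv_pow, ← pow_sub₀ _ hai (Nat.lt_succ_iff.1 (Finset.mem_range.1 hm))]
    have hne : (fun j => eval a (w i j)) ≠ 0 := by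
      rw [hval]
      exact smul_ne_zero (pow_ne_zero _ hai) h2
    refine ⟨hne, ?_⟩
    have h1 : ptK s hA a ha = ptK s hA b hb0 :=
      (ptK_eq_iff s hA hn _ _ ha hb0).2 ⟨a i, by simp [b, smul_smul, hai]⟩
    rw [h1, e]
    exact (ptK_eq_iff s hA hn _ _ h2 hne).2 ⟨((a i) ^ D i)⁻¹, by rw [hval, smul_smul, inv_mul_cancel₀ (pow_ne_zero _ hai), one_smul]⟩
  let i0 : Fin n := ⟨0, hn⟩
  obtain ⟨j0, hj0⟩ : ∃ j, w i0 j ≠ 0 := by
    by_contra! h
    obtain ⟨hb, -⟩ := hw i0 (Pi.single i0 1) (by simp) (by simp)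
    exact hb (funext fun j => by simp [h j])
  let L : Set (Fin n → S) := {l | ∀ p q, l p * w i0 q = l q * w i0 p}
  have hwL : ∀ i, w i ∈ L := by
    intro i p q
    have key : (X i * X i0) * (w i p * w i0 q) = (X i * X i0) * (w i q * w i0 p) := by
      refine MvPolynomial.funext fun a => ?_
      simp only [map_mul, eval_X]
      by_cases h : a i * a i0 = 0
      · simp [h]
      · obtain ⟨h1, h2⟩ := mul_ne_zero_iff.1 h
        have ha : a ≠ 0 := fun hz => by simp [hz] at h1
        obtain ⟨hb, e⟩ := hw i a h1 ha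
        obtain ⟨hb', e'⟩ := hw i0 a h2 ha
        obtain ⟨t, ht⟩ := (ptK_eq_iff s hA hn _ _ hb hb').1 (e.symm.trans e')
        rw [show eval a (w i p) = t * eval a (w i0 p) from congrFun ht p,
          show eval a (w i q) = t * eval a (w i0 q) from congrFun ht q]
        ring
    exact mul_left_cancel₀ (mul_ne_zero (X_ne_zero i) (X_ne_zero i0)) key
  have hex : ∃ d : ℕ, ∃ f ∈ L, f ≠ 0 ∧ ∀ j, (f j).IsHomogeneous d :=
    ⟨D i0, w i0, hwL i0, Function.ne_iff.2 ⟨j0, hj0⟩, hwh i0⟩
  obtain ⟨f, hfL, hf0, hfh⟩ := Nat.find_spec hex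
  obtain ⟨j1, hj1⟩ := Function.ne_iff.1 hf0
  refine ⟨_, f, hfh, fun a ha => ?_⟩
  obtain ⟨i, hi⟩ := Function.ne_iff.1 ha
  obtain ⟨hb, e⟩ := hw i a hi ha
  obtain ⟨a', b', c', hrel, hca, hcb⟩ := UniqueFactorizationMonoid.exists_reduced_factors (f j1) hj1 (w i j1)
  have hc' : c' ≠ 0 := fun h => hj1 (by rw [Pi.zero_apply, ← hca, h, zero_mul])
  have hav : ∀ q, a' * w i q = b' * f q := fun q => by
    apply mul_left_cancel₀ hc'
    have := minor_of_ne_zero hj0 hfL (hwL i) j1 q
    linear_combination this + w i q * hca - f q * hcb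
  have ha0 : a' ≠ 0 := fun h => hj1 (by rw [Pi.zero_apply, ← hca, h, mul_zero])
  have hdvd : ∀ q, a' ∣ f q := fun q => hrel.dvd_of_dvd_mul_left ⟨w i q, (hav q).symm⟩
  choose g hg using hdvd
  have hdeg : a'.totalDegree = 0 := by
    by_contra hd
    have hg1 : g j1 ≠ 0 := fun h => hj1 (by rw [hg j1, h]; simp)
    have hdg : a'.totalDegree + (g j1).totalDegree = Nat.find hex := by
      rw [← totalDegree_mul_of_isDomain ha0 hg1, ← hg j1]
      exact (hfh j1).totalDegree hj1
    obtain ⟨m, hm, hm0⟩ : ∃ m, m ≤ (g j1).totalDegree ∧ homogeneousComponent m (g j1) ≠ 0 := by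
      by_contra! h
      refine hg1 ?_
      rw [← sum_homogeneousComponent (g j1)]
      exact Finset.sum_eq_zero fun m hm => h m (Nat.lt_succ_iff.1 (Finset.mem_range.1 hm))
    refine Nat.find_min hex (m := m) (by omega) ⟨fun q => homogeneousComponent m (g q), fun p q => ?_,
      Function.ne_iff.2 ⟨j1, hm0⟩, fun q => homogeneousComponent_isHomogeneous m _⟩
    show homogeneousComponent m (g p) * w i0 q = homogeneousComponent m (g q) * w i0 p
    rw [← homogeneousComponent_mul_right (hwh i0 q), ← homogeneousComponent_mul_right (hwh i0 p)]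
    congr 1
    apply mul_left_cancel₀ ha0
    rw [← mul_assoc, ← hg, ← mul_assoc, ← hg]
    exact hfL p q
  have hC := totalDegree_eq_zero_iff_eq_C.1 hdeg
  have hc0 : a'.coeff 0 ≠ 0 := fun h => ha0 (by rw [hC, h, map_zero])
  have heq : ∀ q, a'.coeff 0 * eval a (w i q) = eval a b' * eval a (f q) := fun q => by
    have h1 := congrArg (eval a) (hav q)
    rw [hC] at h1
    simpa using h1
  have hne : (fun j => eval a (f j)) ≠ 0 := by
    intro h
    refine hb (funext fun q => ?_)
    have h1 := heq q
    rw [show eval a (f q) = 0 from congrFun h q, mul_zero, mul_eq_zero] at h1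
    exact h1.resolve_left hc0
  refine ⟨hne, e.trans ((ptK_eq_iff s hA hn _ _ hb hne).2 ⟨(a'.coeff 0)⁻¹ * eval a b', funext fun q => ?_⟩)⟩
  rw [Pi.smul_apply, smul_eq_mul, mul_assoc, ← heq q, ← mul_assoc, inv_mul_cancel₀ hc0, one_mul]

/-- **Natural automorphisms of projective space are linear.** -/
theorem exists_linear [IsAlgClosed K] (hn : 0 < n) (H : NatEnd k A (n * n - n))
    (hHG : ∀ N : BrSev.SBSet k A (n * n - n) K, G.app K (H.app K N) = N) :
    ∃ U : Matrix (Fin n) (Fin n) K, ∀ (a : Fin n → K) (ha : a ≠ 0), ∃ hb : Matrix.vecMul a U ≠ 0,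
      G.app K (ptK s hA a ha) = ptK s hA _ hb := by
  classical
  by_cases hn1 : n = 1
  · subst hn1
    refine ⟨1, fun a ha => ⟨by rw [Matrix.vecMul_one]; exact ha, ?_⟩⟩
    obtain ⟨b, hb, hab⟩ := exists_ptK s hA hn (G.app K (ptK s hA a ha))
    rw [← hab]
    refine (ptK_eq_iff s hA hn _ _ hb _).2 ⟨b 0 / a 0, funext fun j => ?_⟩
    have ha0 : a 0 ≠ 0 := fun h => ha (funext fun j => by fin_cases j; simpa using h)
    fin_cases j
    simp [ha0]
  obtain ⟨d, f, hfh, hf⟩ := exists_forms s hA G hn
  obtain ⟨e, h, hhh, hh⟩ := exists_forms s hA H hn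
  let p : Fin n → S := fun q => aeval h (f q)
  have hph : ∀ q, (p q).IsHomogeneous (e * d) := fun q => (hfh q).aeval h hhh
  have hev : ∀ (a : Fin n → K) q, eval a (p q) = eval (fun j => eval a (h j)) (f q) := fun a q => by
    simp only [p, ← evH_apply, evH]
    rw [← AlgHom.comp_apply, comp_aeval]
  have hpair : ∀ (a : Fin n → K), a ≠ 0 → ∃ t : K, t ≠ 0 ∧ (fun q => eval a (p q)) = t • a := by
    intro a ha
    obtain ⟨hb, e1⟩ := hh a ha
    obtain ⟨hc, e2⟩ := hf _ hb
    have h3 := hHG (ptK s hA a ha)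
    rw [e1, e2] at h3
    obtain ⟨t, ht⟩ := (ptK_eq_iff s hA hn _ _ hc ha).1 h3
    refine ⟨t, fun h0 => hc (by rw [ht, h0, zero_smul]), ?_⟩
    rw [← ht]
    exact funext fun q => hev a q
  have hminor : ∀ q r, p q * X r = p r * X q := by
    intro q r
    refine MvPolynomial.funext fun a => ?_
    simp only [map_mul, eval_X]
    by_cases ha : a = 0
    · subst ha; simp
    · obtain ⟨t, -, ht⟩ := hpair a ha
      rw [show eval a (p q) = t * a q from congrFun ht q, show eval a (p r) = t * a r from congrFun ht r]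
      ring
  let i0 : Fin n := ⟨0, hn⟩
  let i1 : Fin n := ⟨1, by omega⟩
  have h01 : i0 ≠ i1 := fun h => by simpa [i0, i1] using congrArg Fin.val h
  obtain ⟨c, hc⟩ : X i0 ∣ p i0 := by
    refine ((X_prime (i := i0)).dvd_or_dvd (a := p i0) (b := X i1) ?_).resolve_right fun hd => h01 (X_dvd_X.1 hd)
    exact ⟨p i1, by rw [hminor i0 i1, mul_comm]⟩
  have hpc : ∀ q, p q = X q * c := fun q => by
    apply mul_left_cancel₀ (X_ne_zero (R := K) i0)
    rw [mul_comm (X i0) (p q), hminor q i0, hc]; ring
  have hcne : ∀ a : Fin n → K, a ≠ 0 → eval a c ≠ 0 := by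
    intro a ha hca
    obtain ⟨t, ht0, ht⟩ := hpair a ha
    obtain ⟨j, hj⟩ := Function.ne_iff.1 ha
    have := congrFun ht j
    rw [hpc j, map_mul, hca, mul_zero, Pi.smul_apply, smul_eq_mul] at this
    exact mul_ne_zero ht0 hj this.symm
  have hc0 : c ≠ 0 := fun h => hcne (Pi.single i0 1) (by simp) (by simp [h])
  have hdeg : c.totalDegree + 1 = e * d := by
    rw [← (hph i0).totalDegree (by rw [hpc]; exact mul_ne_zero (X_ne_zero _) hc0), hpc,
      totalDegree_mul_of_isDomain (X_ne_zero _) hc0, totalDegree_X, add_comm]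
  have hch : c.IsHomogeneous c.totalDegree := by
    have h1 := sum_homogeneousComponent c
    have key : ∀ m, m ≠ c.totalDegree → homogeneousComponent m c = 0 := fun m hm => by
      have h2 := homogeneousComponent_of_mem (m := m + 1) (hph i0)
      rw [if_neg (by omega), hpc, mul_comm, homogeneousComponent_mul_right (isHomogeneous_X K i0)] at h2
      exact (mul_eq_zero.1 h2).resolve_right (X_ne_zero _)
    rw [Finset.sum_eq_single c.totalDegree (fun m _ hm => key m hm) (by simp)] at h1
    conv => arg 1; rw [← h1]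
    exact homogeneousComponent_isHomogeneous _ _
  have hde : e * d = 1 := by
    by_contra hne
    have hm : c.totalDegree ≠ 0 := by omega
    let B : K → (Fin n → K) := fun x => Function.update (Pi.single i0 1) i1 x
    have hB : ∀ x, B x ≠ 0 := fun x h => by simpa [B, Function.update_apply, h01] using congrFun h i0
    let g : Polynomial K := aeval (Function.update (Pi.single i0 (1 : Polynomial K)) i1 Polynomial.X) c
    have hg : ∀ x : K, g.eval x = eval (B x) c := fun x => by
      show Polynomial.aeval x (aeval _ c) = _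
      rw [← AlgHom.comp_apply, comp_aeval, ← coe_aeval_eq_eval]
      show aeval _ c = aeval _ c
      congr 2
      funext j
      by_cases h1 : j = i1
      · subst h1; simp [B]
      · by_cases h0 : j = i0
        · subst h0; simp [B, h1]
        · simp [B, h1, h0]
    have hg0 : g.degree = 0 := by
      by_contra hd
      obtain ⟨x, hx⟩ := IsAlgClosed.exists_root g hd
      exact hcne (B x) (hB x) ((hg x).symm.trans hx)
    have hconst : ∀ x : K, eval (B x) c = g.coeff 0 := fun x => by
      rw [← hg, Polynomial.eq_C_of_degree_eq_zero hg0]; simp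
    let g' : Polynomial K := aeval (Function.update (Pi.single i1 (1 : Polynomial K)) i0 Polynomial.X) c
    have hg' : ∀ x : K, g'.eval x = eval (Function.update (Pi.single i1 (1 : K)) i0 x) c := fun x => by
      show Polynomial.aeval x (aeval _ c) = _
      rw [← AlgHom.comp_apply, comp_aeval, ← coe_aeval_eq_eval]
      show aeval _ c = aeval _ c
      congr 2
      funext j
      by_cases h1 : j = i0
      · subst h1; simp
      · by_cases h0 : j = i1
        · subst h0; simp [h1]
        · simp [h1, h0]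
    have hX : g' = Polynomial.C (g.coeff 0) * Polynomial.X ^ c.totalDegree := by
      refine Polynomial.eq_of_infinite_eval_eq _ _ ((Set.finite_singleton (0 : K)).infinite_compl.mono fun x hx => ?_)
      have hx0 : x ≠ 0 := hx
      show g'.eval x = _
      rw [hg', Polynomial.eval_mul, Polynomial.eval_C, Polynomial.eval_pow, Polynomial.eval_X, ← hconst x⁻¹,
        show Function.update (Pi.single i1 (1 : K)) i0 x = x • B x⁻¹ from funext fun j => by
          by_cases h0 : j = i0
          · subst h0; simp [B, h01]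
          · by_cases h1 : j = i1
            · subst h1; simp [B, h0, hx0]
            · simp [B, h0, h1],
        eval_smul_of_homogeneous hch]
      ring
    refine hcne (Function.update (Pi.single i1 (1 : K)) i0 0) (fun h => by simpa [Function.update_apply, h01.symm] using congrFun h i1) ?_
    rw [← hg', hX]
    simp [hm]
  have hd1 : d = 1 := (mul_eq_one.1 hde).2
  subst hd1
  let U : Matrix (Fin n) (Fin n) K := fun j q => eval (Pi.single j 1) (f q)
  have hU : ∀ a : Fin n → K, (fun q => eval a (f q)) = Matrix.vecMul a U := fun a => by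
    funext q
    have hmem : f q ∈ Submodule.span K (Set.range (X : Fin n → S)) := by
      rw [← homogeneousSubmodule_one_eq_span_X]; exact hfh q
    obtain ⟨co, hco⟩ := (Submodule.mem_span_range_iff_exists_fun K).1 hmem
    show eval a (f q) = ∑ j, a j * U j q
    simp only [U, ← hco, map_sum, smul_eval, eval_X]
    refine Finset.sum_congr rfl fun j _ => ?_
    rw [Finset.sum_eq_single j (fun l _ hl => by simp [hl]) (by simp)]
    simp [mul_comm]
  refine ⟨U, fun a ha => ?_⟩
  obtain ⟨hb, e1⟩ := hf a ha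
  exact ⟨hU a ▸ hb, e1.trans ((ptK_eq_iff s hA hn _ _ hb (hU a ▸ hb)).2 ⟨1, by rw [one_smul]; exact hU a⟩)⟩

end

end SBAutLib
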